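import Groth.Agent.FittLib.Basic
import Mathlib.RingTheory.Support
import Mathlib.RingTheory.FinitePresentation
import Mathlib.RingTheory.Localization.BaseChange
import Mathlib.RingTheory.LocalRing.ResidueField.Basic
import Mathlib.RingTheory.Spectrum.Prime.FreeLocus

/-!
# Fitting ideals and numbers of generators
-/

set_option linter.style.haveILetI false

open TensorProduct

universe u v

namespace Groth.Agent.FittLib

variable {R : Type u} [CommRing R] {M : Type v} [AddCommGroup M] [Module R M]

theorem G_mono {n : ℕ} (x : Fin n → M) {k k' : ℕ} (h : k ≤ k') : G (R := R) x k ≤ G x k' :=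
  Ideal.span_mono fun _ ⟨a, ha, hd⟩ => ⟨a, fun i hi => ha i (by omega), hd⟩

theorem ideal_mono [Module.Finite R M] {k k' : ℕ} (h : k ≤ k') : Fitt.ideal R M k ≤ Fitt.ideal R M k' := by
  obtain ⟨n, x, hx⟩ := Module.Finite.exists_fin (R := R) (M := M)
  rw [ideal_eq_G x hx, ideal_eq_G x hx]
  exact G_mono x h

theorem ideal_eq_top {n : ℕ} (x : Fin n → M) (hx : Submodule.span R (Set.range x) = ⊤) {k : ℕ}
    (h : n ≤ k) : Fitt.ideal R M k = ⊤ := by
  rw [ideal_eq_G x hx, Ideal.eq_top_iff_one]
  exact Ideal.subset_span ⟨1, fun i hi => absurd hi (by omega), Matrix.det_one.symm⟩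

theorem ideal_le_of_surjective {N : Type*} [AddCommGroup N] [Module R N] (f : M →ₗ[R] N)
    (hf : Function.Surjective f) (k : ℕ) : Fitt.ideal R M k ≤ Fitt.ideal R N k := by
  refine Ideal.span_le.2 ?_
  rintro _ ⟨n, x, a, hx, ha, rfl⟩
  refine Ideal.subset_span ⟨n, f ∘ x, a, ?_, fun i hi => ?_, rfl⟩
  · rw [Set.range_comp, ← Submodule.map_span, hx, Submodule.map_top, LinearMap.range_eq_top]
    exact hf
  · simpa using congrArg f (ha i hi)

/-- A coefficient of a relation among `n` generators lies in `Fit_{n-1}`. -/
theorem coeff_mem_G {n : ℕ} (x : Fin n → M) (z : Fin n → R) (hz : ∑ j, z j • x j = 0) (j : Fin n) :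
    z j ∈ G (R := R) x (n - 1) := by
  classical
  have h := det_mem_G_of_card x (n - 1) ((1 : Matrix (Fin n) (Fin n) R).updateRow j z) {j}ᶜ
    (by rw [Finset.card_compl, Finset.card_singleton, Fintype.card_fin]) (fun i hi => by
      obtain rfl : i = j := by simpa using hi
      simpa [Matrix.updateRow_self] using hz)
  have hd : ((1 : Matrix (Fin n) (Fin n) R).updateRow j z).det = z j := by
    rw [show z = ∑ k, z k • (1 : Matrix (Fin n) (Fin n) R) k from by
      ext l; simp [Matrix.one_apply]]
    rw [Matrix.det_updateRow_sum, Matrix.det_one, smul_eq_mul, mul_one]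
    simp [Matrix.one_apply]
  rwa [hd] at h

/-- Over a free basis the Fitting ideals below the rank vanish. -/
theorem ideal_eq_bot_of_basis {n : ℕ} (b : Module.Basis (Fin n) R M) {k : ℕ} (h : k < n) :
    Fitt.ideal R M k = ⊥ := by
  rw [ideal_eq_G b b.span_eq, eq_bot_iff]
  refine Ideal.span_le.2 ?_
  rintro _ ⟨a, ha, rfl⟩
  have h0 : ∀ j, a ⟨0, by omega⟩ j = 0 := fun j =>
    Fintype.linearIndependent_iff.mp b.linearIndependent _ (ha ⟨0, by omega⟩ (by
      change (0 : ℕ) < n - k
      omega)) j
  exact (Submodule.mem_bot R).2 (Matrix.det_eq_zero_of_row_eq_zero _ h0)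

theorem ideal_eq_G_rel [Module.Finite R M] [Module.FinitePresentation R M] (k : ℕ) :
    (Fitt.ideal R M k).FG := by
  classical
  obtain ⟨n, x, hx⟩ := Module.Finite.exists_fin (R := R) (M := M)
  rw [ideal_eq_G x hx]
  let π : (Fin n → R) →ₗ[R] M := Fintype.linearCombination R x
  have hπ : Function.Surjective π := by
    rw [← LinearMap.range_eq_top, Fintype.range_linearCombination, hx]
  obtain ⟨T, hT⟩ := Module.FinitePresentation.fg_ker π hπ
  let E : Finset (Fin n → R) := Finset.univ.image fun j => Pi.single j 1
  let mats : Finset (Matrix (Fin n) (Fin n) R) :=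
    (Fintype.piFinset fun i : Fin n => if (i : ℕ) < n - k then T else E).image Matrix.of
  refine ⟨mats.image Matrix.det, le_antisymm (Ideal.span_le.2 ?_) (Ideal.span_le.2 ?_)⟩
  · intro d hd
    simp only [Finset.coe_image, Set.mem_image, Finset.mem_coe, mats,
      Fintype.mem_piFinset] at hd
    obtain ⟨_, ⟨z, hz, rfl⟩, rfl⟩ := hd
    refine Ideal.subset_span ⟨_, fun i hi => ?_, rfl⟩
    have h := hz i
    rw [if_pos hi] at h
    have : z i ∈ LinearMap.ker π := hT ▸ Submodule.subset_span h
    simpa [π, Fintype.linearCombination_apply] using this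
  · rintro _ ⟨a, ha, rfl⟩
    refine det_mem_of_rows (R' := R) _ (fun i => ((if (i : ℕ) < n - k then T else E : Finset (Fin n → R)) : Set (Fin n → R)))
      (fun b hb => ?_) Finset.univ a (fun i _ => ?_) fun i hi => absurd (Finset.mem_univ i) hi
    · refine Ideal.subset_span ?_
      simp only [Finset.coe_image, Set.mem_image, Finset.mem_coe, mats,
        Fintype.mem_piFinset]
      exact ⟨b, ⟨fun i => b i, fun i => hb i, rfl⟩, rfl⟩
    · by_cases hi : (i : ℕ) < n - k
      · simp only [if_pos hi]
        rw [hT]
        simpa [π, Fintype.linearCombination_apply] using ha i hi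
      · simp only [if_neg hi, E, Finset.coe_image, Finset.coe_univ, Set.image_univ]
        rw [pi_eq_sum_univ' (a i)]
        exact Submodule.sum_mem _ fun j _ => Submodule.smul_mem _ _ (Submodule.subset_span ⟨j, rfl⟩)

theorem ideal_zero_le_annihilator [Module.Finite R M] : Fitt.ideal R M 0 ≤ Module.annihilator R M := by
  classical
  obtain ⟨n, x, hx⟩ := Module.Finite.exists_fin (R := R) (M := M)
  rw [ideal_eq_G x hx]
  refine Ideal.span_le.2 ?_
  rintro _ ⟨a, ha, rfl⟩
  rw [SetLike.mem_coe, Module.mem_annihilator]
  intro m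
  have key : ∀ j, a.det • x j = 0 := fun j => by
    have h : ∑ i, a.adjugate j i • ∑ l, a i l • x l = 0 :=
      Finset.sum_eq_zero fun i _ => by rw [ha i (by omega), smul_zero]
    simp only [Finset.smul_sum, smul_smul] at h
    rw [Finset.sum_comm] at h
    simp only [← Finset.sum_smul] at h
    have e : ∀ l, ∑ i, a.adjugate j i * a i l = (a.adjugate * a) j l := fun l => (Matrix.mul_apply).symm
    simp only [e, Matrix.adjugate_mul] at h
    simpa [Matrix.one_apply] using h
  have hm : m ∈ Submodule.span R (Set.range x) := hx ▸ Submodule.mem_top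
  induction hm using Submodule.span_induction with
  | mem y hy => obtain ⟨j, rfl⟩ := hy; exact key j
  | zero => exact smul_zero _
  | add y z _ _ hy hz => rw [smul_add, hy, hz, add_zero]
  | smul r y _ hy => rw [smul_comm, hy, smul_zero]

theorem mk_sum {S : Submonoid R} {ι : Type*} (t : Finset ι) (f : ι → M) (u : S) :
    LocalizedModule.mk (∑ i ∈ t, f i) u = ∑ i ∈ t, LocalizedModule.mk (f i) u := by
  have h : ∀ z : M, LocalizedModule.mk z u = Localization.mk 1 u • LocalizedModule.mkLinearMap S M z := fun z => by
    rw [LocalizedModule.mkLinearMap_apply, LocalizedModule.mk_smul_mk, one_smul, mul_one]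
  simp only [h, map_sum, Finset.smul_sum]

section Point

variable {R' : Type u} [CommRing R'] [Algebra R R']

theorem ideal_isBaseChange [Module.Finite R M] {N : Type*} [AddCommGroup N] [Module R N] [Module R' N]
    [IsScalarTower R R' N] {f : M →ₗ[R] N} (hf : IsBaseChange R' f) (k : ℕ) :
    Fitt.ideal R' N k = (Fitt.ideal R M k).map (algebraMap R R') := by
  rw [← ideal_baseChange (R' := R') k]
  exact (ideal_congr hf.equiv k).symm

theorem ideal_localizedModule [Module.Finite R M] (S : Submonoid R) (k : ℕ) :
    Fitt.ideal (Localization S) (LocalizedModule S M) k =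
      (Fitt.ideal R M k).map (algebraMap R (Localization S)) :=
  ideal_isBaseChange (IsLocalizedModule.isBaseChange S (Localization S) (LocalizedModule.mkLinearMap S M)) k

theorem not_le_iff_finrank_le [Module.Finite R M] (p : Ideal R) [p.IsPrime] (k : ℕ) :
    ¬ Fitt.ideal R M k ≤ p ↔ Module.finrank p.ResidueField (p.ResidueField ⊗[R] M) ≤ k := by
  let V := p.ResidueField ⊗[R] M
  let b := Module.finBasis p.ResidueField V
  have hmap : (Fitt.ideal R M k).map (algebraMap R p.ResidueField) = Fitt.ideal p.ResidueField V k :=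
    (ideal_baseChange k).symm
  have hle : Fitt.ideal R M k ≤ p ↔ Fitt.ideal p.ResidueField V k = ⊥ := by
    rw [← hmap, Ideal.map_eq_bot_iff_le_ker, Ideal.ker_algebraMap_residueField]
  rw [hle]
  refine ⟨fun h => not_lt.mp fun hlt => h (ideal_eq_bot_of_basis b hlt), fun h => ?_⟩
  rw [ideal_eq_top b b.span_eq h]
  exact top_ne_bot

/-- `Fit_k ⊄ p` iff `k` elements generate after inverting something outside `p`. -/
theorem not_le_iff_exists_smul_mem [Module.Finite R M] (p : Ideal R) [p.IsPrime] (k : ℕ) :
    ¬ Fitt.ideal R M k ≤ p ↔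
      ∃ f : R, f ∉ p ∧ ∃ m : Fin k → M, ∀ x, f • x ∈ Submodule.span R (Set.range m) := by
  constructor
  · intro h
    rw [not_le_iff_finrank_le] at h
    let V := p.ResidueField ⊗[R] M
    let b := Module.finBasis p.ResidueField V
    have hsurj : ∀ v : V, ∃ (c : R) (_ : c ∉ p) (m : M), algebraMap R p.ResidueField c • v = 1 ⊗ₜ m := by
      intro v
      induction v using TensorProduct.induction_on with
      | zero => exact ⟨1, p.ne_top_iff_one.mp (Ideal.IsPrime.ne_top inferInstance), 0, by simp⟩
      | tmul q m =>
        obtain ⟨a, s, hs, rfl⟩ := IsFractionRing.div_surjective (R ⧸ p) q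
        obtain ⟨a, rfl⟩ := Ideal.Quotient.mk_surjective a
        obtain ⟨s, rfl⟩ := Ideal.Quotient.mk_surjective s
        have hsp : s ∉ p := fun h => nonZeroDivisors.ne_zero hs (Ideal.Quotient.eq_zero_iff_mem.2 h)
        refine ⟨s, hsp, a • m, ?_⟩
        rw [TensorProduct.smul_tmul', smul_eq_mul, ← TensorProduct.smul_tmul, Algebra.smul_def, mul_one]
        congr 1
        rw [IsScalarTower.algebraMap_apply R (R ⧸ p) p.ResidueField,
          IsScalarTower.algebraMap_apply R (R ⧸ p) p.ResidueField a]
        have hne : algebraMap (R ⧸ p) p.ResidueField (Ideal.Quotient.mk p s) ≠ 0 :=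
          IsFractionRing.to_map_ne_zero_of_mem_nonZeroDivisors hs
        rw [Ideal.Quotient.algebraMap_eq]
        field_simp
      | add v w hv hw =>
        obtain ⟨c, hc, m, hm⟩ := hv
        obtain ⟨d, hd, n, hn⟩ := hw
        refine ⟨c * d, fun h => (‹p.IsPrime›.mem_or_mem h).elim hc hd, d • m + c • n, ?_⟩
        rw [TensorProduct.tmul_add, TensorProduct.tmul_smul, TensorProduct.tmul_smul, ← hm, ← hn, map_mul,
          smul_add, ← algebraMap_smul p.ResidueField d (algebraMap R p.ResidueField c • v),
          ← algebraMap_smul p.ResidueField c (algebraMap R p.ResidueField d • w), smul_smul, smul_smul,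
          mul_comm (algebraMap R p.ResidueField d)]
    choose c hc m hm using fun i => hsurj (b i)
    let m' : Fin k → M := fun i => if hi : (i : ℕ) < Module.finrank p.ResidueField V then m ⟨i, hi⟩ else 0
    let N := M ⧸ Submodule.span R (Set.range m')
    have hN : Subsingleton (p.ResidueField ⊗[R] N) := by
      let q : V →ₗ[p.ResidueField] p.ResidueField ⊗[R] N := (Submodule.mkQ _).baseChange p.ResidueField
      have hq : Function.Surjective q := LinearMap.lTensor_surjective _ (Submodule.mkQ_surjective _)
      have h0 : q = 0 := b.ext fun i => by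
        have hu : IsUnit (algebraMap R p.ResidueField (c i)) := by
          rw [isUnit_iff_ne_zero, ne_eq, ← RingHom.mem_ker, Ideal.ker_algebraMap_residueField]
          exact hc i
        refine (hu.smul_eq_zero).1 ?_
        rw [← map_smul, hm, LinearMap.baseChange_tmul]
        have : m i ∈ Submodule.span R (Set.range m') :=
          Submodule.subset_span ⟨⟨i, i.2.trans_le h⟩, by simp [m']⟩
        rw [Submodule.mkQ_apply, (Submodule.Quotient.mk_eq_zero _).2 this, TensorProduct.tmul_zero]
      refine ⟨fun a a' => ?_⟩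
      obtain ⟨a, rfl⟩ := hq a
      obtain ⟨a', rfl⟩ := hq a'
      rw [h0]
      rfl
    have hann : ¬ Module.annihilator R N ≤ p := by
      intro hle
      have hsupp : (⟨p, inferInstance⟩ : PrimeSpectrum R) ∈ Module.support R N := Module.mem_support_iff_of_finite.2 hle
      exact ((Module.mem_support_iff_nontrivial_residueField_tensorProduct _).mp hsupp).exists_pair_ne.elim
        fun a ⟨a', ha⟩ => ha (hN.elim a a')
    obtain ⟨f, hf, hfp⟩ := SetLike.not_le_iff_exists.mp hann
    refine ⟨f, hfp, m', fun x => (Submodule.Quotient.mk_eq_zero _).1 ?_⟩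
    exact Module.mem_annihilator.1 hf (Submodule.Quotient.mk x : N)
  · rintro ⟨f, hf, m, hm⟩
    rw [not_le_iff_finrank_le]
    let g : (Fin k → p.ResidueField) →ₗ[p.ResidueField] p.ResidueField ⊗[R] M :=
      Fintype.linearCombination p.ResidueField fun i => (1 : p.ResidueField) ⊗ₜ[R] m i
    have hu : IsUnit (algebraMap R p.ResidueField f) := by
      rw [isUnit_iff_ne_zero, ne_eq, ← RingHom.mem_ker, Ideal.ker_algebraMap_residueField]
      exact hf
    have hg : LinearMap.range g = ⊤ := by
      rw [Fintype.range_linearCombination, eq_top_iff]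
      rintro v -
      induction v using TensorProduct.induction_on with
      | zero => exact zero_mem _
      | tmul q x =>
        obtain ⟨a, ha⟩ := (Submodule.mem_span_range_iff_exists_fun R).1 (hm x)
        have e : q ⊗ₜ[R] x = ∑ i, (q * (↑hu.unit⁻¹ : p.ResidueField) * algebraMap R _ (a i)) •
            ((1 : p.ResidueField) ⊗ₜ[R] m i) := by
          have h1 : ∀ i, (q * (↑hu.unit⁻¹ : p.ResidueField) * algebraMap R _ (a i)) •
              ((1 : p.ResidueField) ⊗ₜ[R] m i) = (q * (↑hu.unit⁻¹ : p.ResidueField)) ⊗ₜ[R] (a i • m i) := fun i => by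
            rw [TensorProduct.smul_tmul', smul_eq_mul, mul_one, ← TensorProduct.smul_tmul, Algebra.smul_def,
              mul_comm]
          rw [Finset.sum_congr rfl fun i _ => h1 i, ← TensorProduct.tmul_sum, ha, ← TensorProduct.smul_tmul,
            Algebra.smul_def, mul_left_comm, IsUnit.mul_val_inv, mul_one]
        rw [e]
        exact Submodule.sum_mem _ fun i _ => Submodule.smul_mem _ _ (Submodule.subset_span ⟨i, rfl⟩)
      | add v w hv hw => exact add_mem hv hw
    exact (LinearMap.finrank_le_finrank_of_surjective (f := g) (LinearMap.range_eq_top.1 hg)).trans_eq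
      (Module.finrank_fin_fun _)

theorem zeroLocus_ideal_zero [Module.Finite R M] :
    PrimeSpectrum.zeroLocus (Fitt.ideal R M 0 : Set R) = Module.support R M := by
  ext P
  rw [PrimeSpectrum.mem_zeroLocus, SetLike.coe_subset_coe, Module.mem_support_iff_of_finite]
  constructor
  · intro h
    by_contra hle
    obtain ⟨f, hf, hfp⟩ := SetLike.not_le_iff_exists.mp hle
    exact (not_le_iff_exists_smul_mem P.asIdeal 0).2 ⟨f, hfp, Fin.elim0, fun x => by
      rw [Module.mem_annihilator.1 hf x]; exact zero_mem _⟩ h
  · exact fun h => ideal_zero_le_annihilator.trans h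

/-- Fitting criterion for local freeness, in an explicit form. -/
theorem linearIndependent_of_ideal_eq_bot {r : ℕ} {x : Fin r → M}
    (hx : Submodule.span R (Set.range x) = ⊤) (h : ∀ k, k < r → Fitt.ideal R M k = ⊥) :
    LinearIndependent R x := by
  rw [Fintype.linearIndependent_iff]
  intro z hz j
  have h1 := coeff_mem_G x z hz j
  rw [← ideal_eq_G x hx, h (r - 1) (by have := j.2; omega)] at h1
  exact (Submodule.mem_bot R).1 h1

end Point

end Groth.Agent.FittLib
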