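import Groth.Agent.FittLib.Rank
import Groth.Agent.LimTop.PullSec
import Groth.Agent.IdealSh.Comap
import Groth.Agent.Props.QProj
import Groth.Agent.RegImm44.Affine

/-!
# Fitting ideal sheaves of quasi-coherent modules
-/

set_option linter.style.haveILetI false

universe u

open CategoryTheory Limits AlgebraicGeometry TopologicalSpace

noncomputable section

namespace Groth.Agent.FittLib

open Groth.Agent.QCoh

variable {X : Scheme.{u}} (F : X.Modules)

theorem map_ideal_basicOpen [F.IsQuasicoherent] [F.IsFiniteType] (U : X.affineOpens) (g : Γ(X, U.1)) (r : ℕ) :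
    (Fitt.ideal Γ(X, U.1) Γ(F, U.1) r).map (X.presheaf.map (homOfLE (X.basicOpen_le g)).op).hom =
      Fitt.ideal Γ(X, X.basicOpen g) Γ(F, X.basicOpen g) r := by
  haveI : Module.Finite Γ(X, U.1) Γ(F, U.1) := finite_sections_of_isFiniteType F U.2
  haveI : Fact (IsAffineOpen U.1) := ⟨U.2⟩
  letI : Algebra Γ(X, U.1) Γ(X, X.basicOpen g) := (X.presheaf.map (homOfLE (X.basicOpen_le g)).op).hom.toAlgebra
  haveI := U.2.isLocalization_basicOpen g
  exact (ideal_isBaseChange ((isLocalizedModule_iff_isBaseChange (Submonoid.powers g) Γ(X, X.basicOpen g)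
    (Props.QStalk.resLin F g)).mp inferInstance) r).symm

theorem sheafIdeal_ideal [F.IsQuasicoherent] [F.IsFiniteType] (r : ℕ) (U : X.affineOpens) :
    (Fitt.sheafIdeal F r).ideal U = Fitt.ideal Γ(X, U.1) Γ(F, U.1) r := by
  let J : X.IdealSheafData :=
    { ideal := fun V => Fitt.ideal Γ(X, V.1) Γ(F, V.1) r
      map_ideal_basicOpen := fun V g => map_ideal_basicOpen F V g r }
  refine le_antisymm (Scheme.IdealSheafData.ideal_ofIdeals_le _ U) ?_
  exact (show J ≤ Fitt.sheafIdeal F r from Scheme.IdealSheafData.le_ofIdeals_iff.mpr le_rfl) U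

theorem mem_support_iff [F.IsQuasicoherent] [F.IsFiniteType] (r : ℕ) (U : X.affineOpens) (s : X)
    (hs : s ∈ U.1) :
    s ∈ (Fitt.sheafIdeal F r).support ↔
      Fitt.ideal Γ(X, U.1) Γ(F, U.1) r ≤ (U.2.primeIdealOf ⟨s, hs⟩).asIdeal := by
  rw [Scheme.IdealSheafData.mem_support_iff_of_mem (U := U) hs, sheafIdeal_ideal F r U,
    Scheme.mem_zeroLocus_iff]
  refine ⟨fun h a ha => by_contra fun hn => h a ha ((RegImm44.mem_basicOpen_iff U.2 ⟨s, hs⟩ a).2 hn),
    fun h a ha hmem => (RegImm44.mem_basicOpen_iff U.2 ⟨s, hs⟩ a).1 hmem (h ha)⟩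

theorem comap_sheafIdeal {T : Scheme.{u}} (f : T ⟶ X) [F.IsQuasicoherent] [F.IsFiniteType] (r : ℕ)
    [((Scheme.Modules.pullback f).obj F).IsQuasicoherent] [((Scheme.Modules.pullback f).obj F).IsFiniteType] :
    (Fitt.sheafIdeal F r).comap f = Fitt.sheafIdeal ((Scheme.Modules.pullback f).obj F) r := by
  refine IdealSh.Comap.ext_of_forall_exists _ _ fun x => ?_
  obtain ⟨U, V, hx, e⟩ := IdealSh.Comap.exists_affine_pair f x
  refine ⟨V, hx, ?_⟩
  haveI : Module.Finite Γ(X, U.1) Γ(F, U.1) := finite_sections_of_isFiniteType F U.2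
  rw [IdealSh.Comap.ideal_comap _ f U V e, sheafIdeal_ideal, sheafIdeal_ideal]
  letI := (f.appLE U.1 V.1 e).hom.toAlgebra
  letI := LimTop.secModule f F e
  haveI : IsScalarTower Γ(X, U.1) Γ(T, V.1) Γ((Scheme.Modules.pullback f).obj F, V.1) :=
    IsScalarTower.of_algebraMap_smul fun _ _ => rfl
  exact (ideal_isBaseChange (LimTop.isBaseChange_unitSec f F e U.2 V.2) r).symm

/-- Spanning sections over an affine open give an epimorphism from a free module. -/
theorem exists_epi_of_span [F.IsQuasicoherent] {V : X.Opens} (hV : IsAffineOpen V) {n : ℕ}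
    (m : Fin n → Γ(F, V)) (hm : Submodule.span Γ(X, V) (Set.range m) = ⊤) :
    ∃ π : FlatMod.freeMod V n ⟶ F.restrict V.ι, Epi π := by
  let N : (Spec Γ(X, V)).Modules := toSpec hV F
  have : N.IsQuasicoherent := Scheme.Modules.isQuasicoherent_restrictFunctor _ F
  have := Scheme.Modules.isIso_fromTildeΓ_of_isQuasicoherent N
  let m' : ULift.{u} (Fin n) → Γ(N, ⊤) := fun i => (toSpecTopLinearEquiv hV F).symm (m i.down)
  let L : (ULift.{u} (Fin n) →₀ Γ(X, V)) →ₗ[Γ(X, V)] Γ(N, ⊤) := Finsupp.linearCombination Γ(X, V) m'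
  let φ : ModuleCat.of Γ(X, V) (ULift.{u} (Fin n) →₀ Γ(X, V)) ⟶ (moduleSpecΓFunctor (R := Γ(X, V))).obj N :=
    (ModuleCat.ofHom L : ModuleCat.of Γ(X, V) (ULift.{u} (Fin n) →₀ Γ(X, V)) ⟶ ModuleCat.of Γ(X, V) Γ(N, ⊤))
  have hφ : Epi φ := by
    refine (ModuleCat.epi_iff_surjective φ).2 ?_
    change Function.Surjective (Finsupp.linearCombination Γ(X, V) m')
    rw [← LinearMap.range_eq_top, Finsupp.range_linearCombination,
      show Set.range m' = (toSpecTopLinearEquiv hV F).symm.toLinearMap '' Set.range m from by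
        rw [← Set.range_comp]; exact Equiv.ulift.surjective.range_comp (fun i => (toSpecTopLinearEquiv hV F).symm (m i)),
      ← Submodule.map_span, hm, Submodule.map_top, LinearEquiv.range]
  haveI : (tilde.functor Γ(X, V)).IsLeftAdjoint := ⟨_, ⟨tilde.adjunction⟩⟩
  haveI : Epi ((tilde.functor Γ(X, V)).map φ) := inferInstance
  let p : (SheafOfModules.free.{u} (ULift.{u} (Fin n)) : (Spec Γ(X, V)).Modules) ⟶ N :=
    (tildeFinsupp _).inv ≫ (tilde.functor _).map φ ≫ N.fromTildeΓ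
  haveI : Epi p := @epi_comp _ _ _ _ _ _ (@IsIso.epi_of_iso _ _ _ _ _ (Iso.isIso_inv _)) _
    (@epi_comp _ _ _ _ _ _ (by assumption) _ (@IsIso.epi_of_iso _ _ _ _ _ (by assumption)))
  have := hV.isOpenImmersion_fromSpec
  let e₂ : Scheme.Modules.restrictFunctor hV.fromSpec ⋙ Scheme.Modules.restrictFunctor
      hV.isoSpec.hom ≅ Scheme.Modules.restrictFunctor V.ι :=
    (Scheme.Modules.restrictFunctorComp _ _).symm ≪≫
      Scheme.Modules.restrictFunctorCongr hV.isoSpec_hom_fromSpec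
  have hP : (Scheme.Modules.restrictFunctor hV.isoSpec.hom).PreservesEpimorphisms :=
    Functor.preservesEpimorphisms_of_adjunction (Scheme.Modules.restrictAdjunction _)
  refine ⟨(Props.QProj.freeModIso _ n).inv ≫ (Props.QProj.restrictFreeIso hV.isoSpec.hom _).inv ≫
    (Scheme.Modules.restrictFunctor hV.isoSpec.hom).map p ≫ (e₂.app F).hom, ?_⟩
  exact @epi_comp _ _ _ _ _ _ (@IsIso.epi_of_iso _ _ _ _ _ (Iso.isIso_inv _)) _ (@epi_comp _ _ _ _ _ _
    (@IsIso.epi_of_iso _ _ _ _ _ (Iso.isIso_inv _)) _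
    (@epi_comp _ _ _ _ _ _ (@Functor.map_epi _ _ _ _ _ hP _ _ p (by assumption)) _ (@IsIso.epi_of_iso _ _ _ _ _ (Iso.isIso_hom _))))

/-- An epimorphism from a free module gives spanning sections over affine opens inside. -/
theorem exists_span_of_epi [F.IsQuasicoherent] {V : X.Opens} {n : ℕ}
    (π : FlatMod.freeMod V n ⟶ F.restrict V.ι) [Epi π] {W : X.Opens} (hW : IsAffineOpen W) (hWV : W ≤ V) :
    ∃ m : Fin n → Γ(F, W), Submodule.span Γ(X, W) (Set.range m) = ⊤ := by
  have := hW.isOpenImmersion_fromSpec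
  let t := IsOpenImmersion.lift V.ι hW.fromSpec
    (by rw [hW.range_fromSpec, Scheme.Opens.range_ι]; exact hWV)
  have : IsOpenImmersion t := by
    have : IsOpenImmersion (t ≫ V.ι) := by rw [IsOpenImmersion.lift_fac]; assumption
    exact IsOpenImmersion.of_comp t V.ι
  have hP : (Scheme.Modules.restrictFunctor t).PreservesEpimorphisms :=
    Functor.preservesEpimorphisms_of_adjunction (Scheme.Modules.restrictAdjunction _)
  let N : (Spec Γ(X, W)).Modules := toSpec hW F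
  have : N.IsQuasicoherent := Scheme.Modules.isQuasicoherent_restrictFunctor _ F
  let F₀ : (Spec Γ(X, W)).Modules := SheafOfModules.free.{u} (ULift.{u} (Fin n))
  let p : F₀ ⟶ N :=
    (Props.QProj.restrictFreeIso t _).inv ≫
      (Scheme.Modules.restrictFunctor t).map ((Props.QProj.freeModIso _ n).hom ≫ π) ≫
      (((Scheme.Modules.restrictFunctorComp t V.ι).symm ≪≫
        Scheme.Modules.restrictFunctorCongr (IsOpenImmersion.lift_fac _ _ _)).app F).hom
  haveI : Epi p := by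
    have h1 := @epi_comp _ _ _ _ _ _ (@IsIso.epi_of_iso _ _ _ _ _ (Iso.isIso_hom (Props.QProj.freeModIso V.toScheme n))) π (by assumption)
    exact @epi_comp _ _ _ _ _ _ (@IsIso.epi_of_iso _ _ _ _ _ (Iso.isIso_inv _)) _
      (@epi_comp _ _ _ _ _ _ (@Functor.map_epi _ _ _ _ _ hP _ _ _ h1) _ (@IsIso.epi_of_iso _ _ _ _ _ (Iso.isIso_hom _)))
  haveI : F₀.IsQuasicoherent :=
    QCoh.isQuasicoherent_of_iso (tildeFinsupp _)
  have hs : Function.Surjective ((moduleSpecΓFunctor (R := Γ(X, W))).map p).hom :=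
    app_surjective_of_epi p (isAffineOpen_top _)
  let e : Γ(F₀, ⊤) ≃ₗ[Γ(X, W)]
      (ULift.{u} (Fin n) →₀ Γ(X, W)) :=
    (Props.QFP.topEquivOfIso (tildeFinsupp (ULift.{u} (Fin n)))).symm ≪≫ₗ
      (tilde.isoTop (ModuleCat.of Γ(X, W) (ULift.{u} (Fin n) →₀ Γ(X, W)))).toLinearEquiv.symm
  let Φ : (ULift.{u} (Fin n) →₀ Γ(X, W)) →ₗ[Γ(X, W)] Γ(F, W) :=
    ((toSpecTopLinearEquiv hW F).toLinearMap.comp ((moduleSpecΓFunctor (R := Γ(X, W))).map p).hom).comp
      e.symm.toLinearMap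
  have hΦ : Function.Surjective Φ :=
    ((toSpecTopLinearEquiv hW F).surjective.comp hs).comp e.symm.surjective
  refine ⟨fun i => Φ (Finsupp.single (ULift.up i) 1), eq_top_iff.2 fun y _ => ?_⟩
  obtain ⟨c, rfl⟩ := hΦ y
  rw [← c.sum_single, map_finsuppSum]
  refine Submodule.sum_mem _ fun i _ => ?_
  dsimp only
  rw [← mul_one (c i), ← smul_eq_mul, ← Finsupp.smul_single, map_smul]
  exact Submodule.smul_mem _ _ (Submodule.subset_span ⟨i.down, rfl⟩)

/-- Pullbacks of quasi-coherent modules of finite type are of finite type. -/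
theorem isFiniteType_pullback {T : Scheme.{u}} (f : T ⟶ X) [F.IsQuasicoherent] [F.IsFiniteType] :
    ((Scheme.Modules.pullback f).obj F).IsFiniteType := by
  refine QCoh.isFiniteType_of_forall_exists _ fun x => ?_
  obtain ⟨U, V, hx, e⟩ := IdealSh.Comap.exists_affine_pair f x
  refine ⟨V.1, V.2, hx, ?_⟩
  haveI : Module.Finite Γ(X, U.1) Γ(F, U.1) := finite_sections_of_isFiniteType F U.2
  letI := (f.appLE U.1 V.1 e).hom.toAlgebra
  letI := LimTop.secModule f F e
  haveI : IsScalarTower Γ(X, U.1) Γ(T, V.1) Γ((Scheme.Modules.pullback f).obj F, V.1) :=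
    IsScalarTower.of_algebraMap_smul fun _ _ => rfl
  exact Module.Finite.equiv (LimTop.isBaseChange_unitSec f F e U.2 V.2).equiv

/-- Sections spanning after multiplication by `g` span over the basic open of `g`. -/
theorem span_resLin_eq_top [F.IsQuasicoherent] {U : X.Opens} (hU : IsAffineOpen U) (g : Γ(X, U)) {n : ℕ}
    (m : Fin n → Γ(F, U)) (h : ∀ x, g • x ∈ Submodule.span Γ(X, U) (Set.range m)) :
    Submodule.span Γ(X, X.basicOpen g) (Set.range fun i => Props.QStalk.resLin F g (m i)) = ⊤ := by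
  haveI : Fact (IsAffineOpen U) := ⟨hU⟩
  refine eq_top_iff.2 fun y _ => ?_
  obtain ⟨⟨t, ⟨_, k, rfl⟩⟩, ht⟩ := IsLocalizedModule.surj (Submonoid.powers g) (Props.QStalk.resLin F g) y
  obtain ⟨a, ha⟩ := (Submodule.mem_span_range_iff_exists_fun _).1 (h t)
  have e : (g ^ (k + 1)) • y = ∑ i, a i • Props.QStalk.resLin F g (m i) := by
    rw [pow_succ', mul_smul, show g ^ k • y = Props.QStalk.resLin F g t from ht, ← map_smul, ← ha, map_sum]
    simp only [map_smul]
  have hu : IsUnit (X.presheaf.map (homOfLE (X.basicOpen_le g)).op (g ^ (k + 1))) := by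
    rw [map_pow]
    exact (RingedSpace.isUnit_res_basicOpen _ g).pow _
  rw [show y = ((hu.unit⁻¹ : (Γ(X, X.basicOpen g))ˣ) : Γ(X, X.basicOpen g)) • (g ^ (k + 1)) • y from by
    rw [show (g ^ (k + 1)) • y = (hu.unit : Γ(X, X.basicOpen g)) • y from rfl, smul_smul, Units.inv_mul, one_smul], e]
  exact Submodule.smul_mem _ _ (Submodule.sum_mem _ fun i _ =>
    Submodule.smul_mem _ (X.presheaf.map (homOfLE (X.basicOpen_le g)).op (a i)) (Submodule.subset_span ⟨i, rfl⟩))

/-- `F` is generated by `r` sections near `s` iff `s` avoids the support of `Fit_r`. -/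
theorem exists_epi_iff [F.IsQuasicoherent] [F.IsFiniteType] (s : X) (r : ℕ) :
    (∃ U : X.Opens, s ∈ U ∧ ∃ π : FlatMod.freeMod U r ⟶ F.restrict U.ι, Epi π) ↔
      s ∉ (Fitt.sheafIdeal F r).support := by
  constructor
  · rintro ⟨U, hs, π, hπ⟩
    obtain ⟨W, hW, hsW, hWU⟩ := exists_isAffineOpen_mem_and_subset hs
    obtain ⟨m, hm⟩ := exists_span_of_epi F π hW hWU
    rw [mem_support_iff F r ⟨W, hW⟩ s hsW, ideal_eq_top m hm le_rfl, top_le_iff]
    exact (hW.primeIdealOf ⟨s, hsW⟩).2.ne_top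
  · intro h
    obtain ⟨W, hW, hsW, -⟩ := exists_isAffineOpen_mem_and_subset (show s ∈ (⊤ : X.Opens) from trivial)
    haveI : Module.Finite Γ(X, W) Γ(F, W) := finite_sections_of_isFiniteType F hW
    rw [mem_support_iff F r ⟨W, hW⟩ s hsW, not_le_iff_exists_smul_mem] at h
    obtain ⟨g, hg, m, hm⟩ := h
    obtain ⟨π, hπ⟩ := exists_epi_of_span F (hW.basicOpen g) _ (span_resLin_eq_top F hW g m hm)
    exact ⟨X.basicOpen g, (RegImm44.mem_basicOpen_iff hW ⟨s, hsW⟩ g).2 hg, π, hπ⟩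

/-- The Fitting criterion for being finite locally free of rank `r`. -/
theorem isFinLocFreeOfRank_iff [F.IsQuasicoherent] [F.IsFiniteType] (r : ℕ) :
    FlatMod.IsFinLocFreeOfRank r F ↔
      (∀ k : ℕ, k < r → Fitt.sheafIdeal F k = ⊥) ∧ (∀ k : ℕ, r ≤ k → Fitt.sheafIdeal F k = ⊤) := by
  constructor
  · intro h
    have key : ∀ x : X, ∃ (V : X.affineOpens) (_ : x ∈ V.1),
        Nonempty (Module.Basis (Fin r) Γ(X, V.1) Γ(F, V.1)) := fun x => by
      obtain ⟨U, hx, ⟨e⟩⟩ := h x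
      obtain ⟨W, hW, hxW, hWU⟩ := exists_isAffineOpen_mem_and_subset hx
      exact ⟨⟨W, hW⟩, hxW, Props.QProj.free_sections_of_restrict_iso F e hW hWU⟩
    refine ⟨fun k hk => IdealSh.Comap.ext_of_forall_exists _ _ fun x => ?_,
      fun k hk => IdealSh.Comap.ext_of_forall_exists _ _ fun x => ?_⟩
    · obtain ⟨V, hxV, ⟨b⟩⟩ := key x
      refine ⟨V, hxV, ?_⟩
      rw [sheafIdeal_ideal, ideal_eq_bot_of_basis b hk, Scheme.IdealSheafData.ideal_bot]
      rfl
    · obtain ⟨V, hxV, ⟨b⟩⟩ := key x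
      refine ⟨V, hxV, ?_⟩
      rw [sheafIdeal_ideal, ideal_eq_top b b.span_eq hk, Scheme.IdealSheafData.ideal_top]
      rfl
  · rintro ⟨hbot, htop⟩ x
    obtain ⟨U, hx, π, hπ⟩ := (exists_epi_iff F x r).2 (by
      rw [htop r le_rfl, Scheme.IdealSheafData.support_top]; exact fun h => h)
    obtain ⟨W, hW, hxW, hWU⟩ := exists_isAffineOpen_mem_and_subset hx
    obtain ⟨m, hm⟩ := exists_span_of_epi F π hW hWU
    have hli := linearIndependent_of_ideal_eq_bot hm fun k hk => by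
      rw [← sheafIdeal_ideal F k ⟨W, hW⟩, hbot k hk, Scheme.IdealSheafData.ideal_bot]; rfl
    let b : Module.Basis (Fin r) Γ(X, W) Γ(F, W) := Module.Basis.mk hli hm.ge
    obtain ⟨n, ⟨e⟩⟩ := Props.QProj.nonempty_restrict_iso_free F hW b
    obtain ⟨b'⟩ := Props.QProj.free_sections_of_restrict_iso F e hW le_rfl
    haveI : Nonempty W := ⟨⟨x, hxW⟩⟩
    obtain rfl : n = r := Fin.equiv_iff_eq.mp ⟨b'.indexEquiv b⟩
    exact ⟨W, hxW, ⟨e⟩⟩

theorem coe_support_sheafIdeal_zero [F.IsQuasicoherent] [F.IsFiniteType] :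
    ((Fitt.sheafIdeal F 0).support : Set X) = CohB1.support F := by
  ext s
  obtain ⟨W, hW, hsW, -⟩ := exists_isAffineOpen_mem_and_subset (show s ∈ (⊤ : X.Opens) from trivial)
  haveI : Module.Finite Γ(X, W) Γ(F, W) := finite_sections_of_isFiniteType F hW
  rw [SetLike.mem_coe, mem_support_iff F 0 ⟨W, hW⟩ s hsW]
  refine (Set.ext_iff.1 zeroLocus_ideal_zero (hW.primeIdealOf ⟨s, hsW⟩)).trans ?_
  letI := LimTop.stalkModule F hsW
  haveI := LimTop.isLocalizedModule_germLin F hW hsW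
  rw [Module.mem_support_iff]
  change _ ↔ ¬ Subsingleton _
  rw [not_subsingleton_iff_nontrivial]
  exact (IsLocalizedModule.iso (hW.primeIdealOf ⟨s, hsW⟩).asIdeal.primeCompl
    (LimTop.germLin F hsW)).toEquiv.nontrivial_congr

/-- Every point avoids the support of some Fitting ideal. -/
theorem exists_notMem_support [F.IsQuasicoherent] [F.IsFiniteType] (s : X) :
    ∃ r : ℕ, s ∉ (Fitt.sheafIdeal F r).support := by
  obtain ⟨W, hW, hsW, -⟩ := exists_isAffineOpen_mem_and_subset (show s ∈ (⊤ : X.Opens) from trivial)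
  haveI : Module.Finite Γ(X, W) Γ(F, W) := finite_sections_of_isFiniteType F hW
  obtain ⟨n, m, hm⟩ := Module.Finite.exists_fin (R := Γ(X, W)) (M := Γ(F, W))
  refine ⟨n, ?_⟩
  rw [mem_support_iff F n ⟨W, hW⟩ s hsW, ideal_eq_top m hm le_rfl, top_le_iff]
  exact (hW.primeIdealOf ⟨s, hsW⟩).2.ne_top

end Groth.Agent.FittLib
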