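import Groth.Agent.FittLib.Strict
import Mathlib.RingTheory.Localization.Finiteness
import Mathlib.RingTheory.Flat.Basic

/-!
# A blow-up centre making the strict transform of a module locally free
-/

set_option linter.style.haveILetI false

open TensorProduct

universe u

namespace Groth.Agent.FittLib.StrictExists

variable {R : Type u} [CommRing R] {M : Type u} [AddCommGroup M] [Module R M]

/-- `y` is a basis of `M` after inverting `g`, stated with powers of `g`. -/
def IsPowBasis (g : R) {r : ℕ} (y : Fin r → M) : Prop :=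
  (∀ v : M, ∃ m : ℕ, g ^ m • v ∈ Submodule.span R (Set.range y)) ∧
    ∀ z : Fin r → R, ∑ i, z i • y i = 0 → ∀ i, ∃ m : ℕ, g ^ m * z i = 0

theorem exists_isPowBasis (g : R) {r : ℕ}
    (b : Module.Basis (Fin r) (Localization.Away g) (LocalizedModule (Submonoid.powers g) M)) :
    ∃ y : Fin r → M, IsPowBasis g y := by
  let S := Submonoid.powers g
  let ι := LocalizedModule.mkLinearMap S M
  have hb : ∀ i, ∃ (y : M) (s : S), s • b i = ι y := fun i => by
    obtain ⟨⟨y, s⟩, h⟩ := IsLocalizedModule.surj S ι (b i)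
    exact ⟨y, s, h⟩
  choose y s hs using hb
  refine ⟨y, fun v => ?_, fun z hz i => ?_⟩
  · have hmem : ι v ∈ Submodule.span (Localization.Away g) (ι '' Set.range y) := by
      rw [← b.sum_repr (ι v)]
      refine Submodule.sum_mem _ fun i _ => Submodule.smul_mem _ _ ?_
      have hbi : b i = IsLocalization.mk' (Localization.Away g) 1 (s i) • ι (y i) := by
        rw [← hs i, Submonoid.smul_def, ← algebraMap_smul (Localization.Away g) (s i : R) (b i), smul_smul,
          IsLocalization.mk'_spec, map_one, one_smul]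
      rw [hbi]
      exact Submodule.smul_mem _ _ (Submodule.subset_span ⟨_, ⟨i, rfl⟩, rfl⟩)
    obtain ⟨⟨_, m, rfl⟩, hm⟩ := multiple_mem_span_of_mem_localization_span S (Localization.Away g) _ _ hmem
    rw [← Submodule.map_span, Submodule.mem_map] at hm
    obtain ⟨w, hw, he⟩ := hm
    rw [Submonoid.smul_def, ← map_smul] at he
    obtain ⟨⟨_, l, rfl⟩, hl⟩ := (IsLocalizedModule.eq_iff_exists S ι).1 he
    exact ⟨l + m, by rw [pow_add, mul_smul, show g ^ l • g ^ m • v = g ^ l • w from hl.symm]; exact Submodule.smul_mem _ _ hw⟩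
  · have h0 : ∑ j, (algebraMap R (Localization.Away g) (z j * (s j : R))) • b j = 0 := by
      rw [← map_zero ι, ← hz, map_sum]
      exact Finset.sum_congr rfl fun j _ => by
        rw [algebraMap_smul, mul_smul, map_smul]; exact congrArg (z j • ·) (hs j)
    have h1 := Fintype.linearIndependent_iff.1 b.linearIndependent _ h0 i
    rw [IsLocalization.map_eq_zero_iff S] at h1
    obtain ⟨⟨_, m, rfl⟩, hm⟩ := h1
    obtain ⟨l, hl⟩ := (s i).2
    refine ⟨m + l, ?_⟩
    rw [pow_add]
    simp only at hl hm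
    rw [← hl] at hm
    linear_combination hm

theorem exists_basis (g : R) {r : ℕ} {y : Fin r → M} (h : IsPowBasis g y) :
    Nonempty (Module.Basis (Fin r) (Localization.Away g) (LocalizedModule (Submonoid.powers g) M)) := by
  let S := Submonoid.powers g
  let ι := LocalizedModule.mkLinearMap S M
  have hu : IsUnit (algebraMap R (Localization.Away g) g) := IsLocalization.Away.algebraMap_isUnit g
  have hli : LinearIndependent (Localization.Away g) fun i => ι (y i) := by
    rw [Fintype.linearIndependent_iff]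
    intro z hz j
    obtain ⟨b, hb⟩ := IsLocalization.exist_integer_multiples_of_finite S z
    choose w hw using hb
    have h0 : ι (∑ i, w i • y i) = 0 := by
      rw [map_sum]
      calc ∑ i, ι (w i • y i) = ∑ i, (b : R) • (z i • ι (y i)) := Finset.sum_congr rfl fun i _ => by
            rw [map_smul, ← algebraMap_smul (Localization.Away g) (w i), hw i, smul_assoc]
        _ = 0 := by rw [← Finset.smul_sum, hz, smul_zero]
    obtain ⟨⟨_, k, rfl⟩, hk⟩ := (IsLocalizedModule.eq_zero_iff S ι).1 h0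
    obtain ⟨m, h1⟩ := h.2 (fun i => g ^ k * w i) (by
      simp only [mul_smul, ← Finset.smul_sum]; exact hk) j
    have h2 : algebraMap R (Localization.Away g) (w j) = 0 := by
      have := congrArg (algebraMap R (Localization.Away g)) h1
      rw [map_zero, map_mul, map_mul, map_pow, map_pow] at this
      rwa [(hu.pow m).mul_right_eq_zero, (hu.pow k).mul_right_eq_zero] at this
    rw [hw j, Algebra.smul_def] at h2
    exact (IsLocalization.map_units (Localization.Away g) b).mul_right_eq_zero.1 h2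
  refine ⟨Module.Basis.mk hli (fun v _ => ?_)⟩
  obtain ⟨⟨v', t⟩, ht⟩ := IsLocalizedModule.surj S ι v
  obtain ⟨m, hm⟩ := h.1 v'
  have hmem : ι (g ^ m • v') ∈ Submodule.span (Localization.Away g) (Set.range fun i => ι (y i)) := by
    have := Submodule.mem_map_of_mem (f := ι) hm
    rw [Submodule.map_span, ← Set.range_comp] at this
    exact Submodule.span_subset_span R _ _ this
  rw [map_smul, ← ht, Submonoid.smul_def, ← mul_smul, ← algebraMap_smul (Localization.Away g)] at hmem
  refine (Submodule.smul_mem_iff_of_isUnit _ ?_).1 hmem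
  rw [map_mul, map_pow]
  exact (hu.pow m).mul (IsLocalization.map_units (Localization.Away g) t)

theorem fitting_facts [Module.Finite R M] (g : R) {r : ℕ} {y : Fin r → M} (h : IsPowBasis g y) :
    (∀ j, j < r → ∀ d ∈ Fitt.ideal R M j, ∃ m : ℕ, g ^ m * d = 0) ∧
      ∀ j, r ≤ j → ∃ m : ℕ, g ^ m ∈ Fitt.ideal R M j := by
  obtain ⟨b⟩ := exists_basis g h
  refine ⟨fun j hj d hd => ?_, fun j hj => ?_⟩
  · have h0 := ideal_eq_bot_of_basis b hj
    rw [show Fitt.ideal (Localization.Away g) (LocalizedModule (Submonoid.powers g) M) j =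
      (Fitt.ideal R M j).map (algebraMap R (Localization.Away g)) from ideal_localizedModule _ _] at h0
    have := Ideal.mem_map_of_mem (algebraMap R (Localization.Away g)) hd
    rw [h0, Ideal.mem_bot, IsLocalization.map_eq_zero_iff (Submonoid.powers g)] at this
    obtain ⟨⟨_, m, rfl⟩, hm⟩ := this
    exact ⟨m, hm⟩
  · have h0 := ideal_eq_top b b.span_eq hj
    rw [show Fitt.ideal (Localization.Away g) (LocalizedModule (Submonoid.powers g) M) j =
      (Fitt.ideal R M j).map (algebraMap R (Localization.Away g)) from ideal_localizedModule _ _] at h0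
    by_contra hne
    push Not at hne
    refine (IsLocalization.map_algebraMap_ne_top_iff_disjoint (Submonoid.powers g) (Localization.Away g) _).2
      (Set.disjoint_left.2 ?_) h0
    rintro _ ⟨m, rfl⟩
    exact hne m

/-- Finitely many relations suffice on `D(g)`. -/
theorem exists_relations [Module.Finite R M] {n : ℕ} (x : Fin n → M) (hx : Submodule.span R (Set.range x) = ⊤)
    (g : R) {r : ℕ} {y : Fin r → M} (h : IsPowBasis g y) :
    ∃ K₀ : Submodule R (Fin n → R), K₀.FG ∧ K₀ ≤ LinearMap.ker (Fintype.linearCombination R x) ∧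
      ∀ z ∈ LinearMap.ker (Fintype.linearCombination R x), ∃ m : ℕ, g ^ m • z ∈ K₀ := by
  classical
  let π := Fintype.linearCombination R x
  have hπ : ∀ v, ∃ w, π w = v := fun v =>
    LinearMap.range_eq_top.1 (by rw [Fintype.range_linearCombination, hx]) v
  choose m hm using fun i => h.1 (x i)
  choose c hc using fun i => (Submodule.mem_span_range_iff_exists_fun R).1 (hm i)
  choose d hd using fun j => hπ (y j)
  let k : Fin n → (Fin n → R) := fun i => g ^ m i • Pi.single i 1 - ∑ j, c i j • d j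
  let N := Finset.univ.sup m
  refine ⟨Submodule.span R (Set.range k), Submodule.fg_span (Set.finite_range k), ?_, fun z hz => ?_⟩
  · rw [Submodule.span_le]
    rintro _ ⟨i, rfl⟩
    simp [k, π, hd, hc, Fintype.linearCombination_apply_single]
  · have hsum : ∑ i, (z i * g ^ (N - m i)) • k i =
        g ^ N • z - ∑ j, (∑ i, z i * g ^ (N - m i) * c i j) • d j := by
      have h1 : g ^ N • z = ∑ i, (z i * g ^ (N - m i)) • g ^ m i • (Pi.single i 1 : Fin n → R) := by
        conv_lhs => rw [pi_eq_sum_univ' z, Finset.smul_sum]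
        refine Finset.sum_congr rfl fun i _ => ?_
        rw [smul_smul, smul_smul, mul_assoc, ← pow_add, Nat.sub_add_cancel (Finset.le_sup (Finset.mem_univ i)),
          mul_comm]
      simp only [k, smul_sub, Finset.sum_sub_distrib, Finset.smul_sum, smul_smul]
      rw [h1]
      simp only [smul_smul, Finset.sum_smul]
      rw [Finset.sum_comm]
    have hrel : ∑ j, (∑ i, z i * g ^ (N - m i) * c i j) • y j = 0 := by
      have h2 := congrArg π hsum
      rw [map_sub, map_smul, (LinearMap.mem_ker).1 hz, smul_zero, zero_sub, map_sum, map_sum] at h2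
      have h3 : ∀ i, π (k i) = 0 := fun i => by
        simp [k, π, hd, hc, Fintype.linearCombination_apply_single]
      simp only [map_smul, h3, smul_zero, Finset.sum_const_zero, hd] at h2
      simpa using h2.symm
    choose l hl using h.2 _ hrel
    refine ⟨Finset.univ.sup l + N, ?_⟩
    rw [pow_add, mul_smul, show g ^ N • z = ∑ i, (z i * g ^ (N - m i)) • k i +
      ∑ j, (∑ i, z i * g ^ (N - m i) * c i j) • d j by rw [hsum, sub_add_cancel], smul_add, Finset.smul_sum,
      Finset.smul_sum]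
    refine Submodule.add_mem _ (Submodule.sum_mem _ fun i _ => Submodule.smul_mem _ _
      (Submodule.smul_mem _ _ (Submodule.subset_span ⟨i, rfl⟩))) (Submodule.sum_mem _ fun j _ => ?_)
    rw [smul_smul, ← Nat.sub_add_cancel (Finset.le_sup (f := l) (Finset.mem_univ j)), pow_add, mul_assoc, hl j,
      mul_zero, zero_smul]
    exact zero_mem _

variable (f : R) (r : ℕ)

theorem exists_fp_cover [Module.Finite R M]
    (hf : ∀ (p : Ideal R) [p.IsPrime], f ∉ p → ∃ g : R, g ∉ p ∧ ∃ y : Fin r → M, IsPowBasis g y) :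
    ∃ (M₂ : Type u) (_ : AddCommGroup M₂) (_ : Module R M₂) (_ : Module.FinitePresentation R M₂)
      (q : M₂ →ₗ[R] M), Function.Surjective q ∧ (∀ v, q v = 0 → ∃ m : ℕ, f ^ m • v = 0) ∧
      (∀ j, j < r → ∀ d ∈ Fitt.ideal R M₂ j, ∃ m : ℕ, f ^ m * d = 0) ∧
      ∃ m : ℕ, f ^ m ∈ Fitt.ideal R M₂ r := by
  classical
  let G : Set R := {g | ∃ y : Fin r → M, IsPowBasis g y}
  have hG : f ∈ (Ideal.span G).radical := by
    rw [Ideal.radical_eq_sInf]
    refine Submodule.mem_sInf.2 fun (p : Ideal R) ⟨hle, hp⟩ => ?_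
    by_contra hfp
    haveI := hp
    obtain ⟨g, hg, hy⟩ := hf p hfp
    exact hg (hle (Ideal.subset_span hy))
  obtain ⟨N, hN⟩ := hG
  obtain ⟨T, hTG, hT⟩ := Submodule.mem_span_finite_of_mem_span hN
  obtain ⟨n, x, hx⟩ := Module.Finite.exists_fin (R := R) (M := M)
  let π := Fintype.linearCombination R x
  have hK : ∀ g : T, ∃ K₀ : Submodule R (Fin n → R), K₀.FG ∧ K₀ ≤ LinearMap.ker π ∧
      ∀ z ∈ LinearMap.ker π, ∃ m : ℕ, g.1 ^ m • z ∈ K₀ := fun g => by
    obtain ⟨y, hy⟩ := hTG g.2
    exact exists_relations x hx g.1 hy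
  choose K hKfg hKle hKsat using hK
  let K₂ := ⨆ g, K g
  have hK₂ : K₂.FG := Submodule.fg_iSup _ hKfg
  have hle : K₂ ≤ LinearMap.ker π := iSup_le hKle
  haveI : Module.FinitePresentation R ((Fin n → R) ⧸ K₂) :=
    Module.finitePresentation_of_surjective K₂.mkQ K₂.mkQ_surjective (by rwa [Submodule.ker_mkQ])
  let q := K₂.liftQ π hle
  have hq : Function.Surjective q := fun v => by
    obtain ⟨w, hw⟩ := LinearMap.range_eq_top.1
      (show LinearMap.range π = ⊤ by rw [Fintype.range_linearCombination, hx]) v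
    exact ⟨K₂.mkQ w, hw⟩
  have hglue : ∀ {P : R → Prop} (hP : ∀ a b, P a → P b → P (a + b)) (hP' : ∀ a b, P b → P (a * b)) (h0 : P 0),
      (∀ g : T, ∃ m, P (g.1 ^ m)) → ∃ m, P (f ^ m) := by
    intro P hP hP' h0 hg
    let J : Ideal R := { carrier := {a | P a}, add_mem' := hP _ _, zero_mem' := h0, smul_mem' := hP' }
    have h1 : f ^ N ∈ J.radical := Ideal.span_le.2 (fun a ha => by
      obtain ⟨m, hm⟩ := hg ⟨a, ha⟩
      exact ⟨m, hm⟩) hT
    obtain ⟨m, hm⟩ := h1
    rw [← pow_mul] at hm
    exact ⟨_, hm⟩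
  have hker : ∀ (g : T) (v), q v = 0 → ∃ m : ℕ, g.1 ^ m • v = 0 := fun g v hv => by
    obtain ⟨z, rfl⟩ := K₂.mkQ_surjective v
    obtain ⟨m, hm⟩ := hKsat g z hv
    exact ⟨m, by rw [← map_smul]; exact (Submodule.Quotient.mk_eq_zero _).2 (le_iSup K g hm)⟩
  have hbasis : ∀ g : T, ∃ y : Fin r → (Fin n → R) ⧸ K₂, IsPowBasis g.1 y := fun g => by
    obtain ⟨y, hy⟩ := hTG g.2
    choose y₂ hy₂ using fun i => hq (y i)
    refine ⟨y₂, fun v => ?_, fun z hz => hy.2 z ?_⟩
    · obtain ⟨m, hm⟩ := hy.1 (q v)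
      obtain ⟨c, hc⟩ := (Submodule.mem_span_range_iff_exists_fun R).1 hm
      obtain ⟨l, hl⟩ := hker g (g.1 ^ m • v - ∑ i, c i • y₂ i) (by simp [hy₂, hc])
      refine ⟨l + m, ?_⟩
      rw [smul_sub, sub_eq_zero] at hl
      rw [pow_add, mul_smul, hl]
      exact Submodule.smul_mem _ _ (Submodule.sum_mem _ fun i _ =>
        Submodule.smul_mem _ _ (Submodule.subset_span ⟨i, rfl⟩))
    · simpa [hy₂] using congrArg q hz
  refine ⟨_, inferInstance, inferInstance, inferInstance, q, hq, fun v hv => ?_, fun j hj d hd => ?_, ?_⟩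
  · exact hglue (P := fun a => a • v = 0) (fun a b ha hb => by rw [add_smul, ha, hb, add_zero])
      (fun a b hb => by rw [mul_smul, hb, smul_zero]) (zero_smul _ _) fun g => hker g v hv
  · exact hglue (P := fun a => a * d = 0) (fun a b ha hb => by rw [add_mul, ha, hb, add_zero])
      (fun a b hb => by rw [mul_assoc, hb, mul_zero]) (zero_mul _) fun g => by
        obtain ⟨y, hy⟩ := hbasis g
        exact (fitting_facts g.1 hy).1 j hj d hd
  · exact hglue (P := fun a => a ∈ Fitt.ideal R ((Fin n → R) ⧸ K₂) r) (fun a b => add_mem)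
      (fun a b => Ideal.mul_mem_left _ a) (zero_mem _) fun g => by
        obtain ⟨y, hy⟩ := hbasis g
        exact (fitting_facts g.1 hy).2 r le_rfl

/-- The strict transform is locally free. -/
theorem free_away_strict [Module.Finite R M] {M₂ : Type u} [AddCommGroup M₂] [Module R M₂] [Module.Finite R M₂]
    (q : M₂ →ₗ[R] M) (hq : Function.Surjective q) (hker : ∀ v, q v = 0 → ∃ m : ℕ, f ^ m • v = 0)
    (hbot : ∀ j, j < r → ∀ d ∈ Fitt.ideal R M₂ j, ∃ m : ℕ, f ^ m * d = 0)
    {a : R} (ha : a ∈ Ideal.span {f} * Fitt.ideal R M₂ r)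
    (B : Type u) [CommRing B] [Algebra R B] (hnzd : algebraMap R B a ∈ nonZeroDivisors B)
    (hmap : (Ideal.span {f} * Fitt.ideal R M₂ r).map (algebraMap R B) = Ideal.span {algebraMap R B a})
    (p : Ideal B) [p.IsPrime] :
    ∃ g : B, g ∉ p ∧
      Module.Free (Localization.Away g)
        (LocalizedModule (Submonoid.powers g) ((B ⊗[R] M) ⧸ FlatCA.powTorsion B (algebraMap R B a) (B ⊗[R] M))) ∧
      Module.finrank (Localization.Away g)
        (LocalizedModule (Submonoid.powers g) ((B ⊗[R] M) ⧸ FlatCA.powTorsion B (algebraMap R B a) (B ⊗[R] M))) = r := by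
  let φ := algebraMap R B
  obtain ⟨j, hj, haj⟩ := Ideal.mem_span_singleton_mul.1 ha
  subst haj
  have hfj : φ f * φ j ∈ nonZeroDivisors B := by rw [← map_mul]; exact hnzd
  obtain ⟨hfnz, hjnz⟩ := mul_mem_nonZeroDivisors.1 hfj
  have hfit : Fitt.ideal B (B ⊗[R] M₂) r = Ideal.span {φ j} := by
    rw [ideal_baseChange (R' := B) r]
    refine le_antisymm (fun y hy => ?_) ((Ideal.span_singleton_le_iff_mem _).2 (Ideal.mem_map_of_mem φ hj))
    have h1 : φ f * y ∈ (Ideal.span {f} * Fitt.ideal R M₂ r).map φ := by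
      rw [Ideal.map_mul, Ideal.map_span, Set.image_singleton]
      exact Ideal.mul_mem_mul (Ideal.mem_span_singleton_self _) hy
    rw [hmap, Ideal.mem_span_singleton'] at h1
    obtain ⟨z, hz⟩ := h1
    rw [Ideal.mem_span_singleton']
    refine ⟨z, (mul_cancel_left_mem_nonZeroDivisors hfnz).1 ?_⟩
    rw [← hz, map_mul]
    ring
  have hk : r = 0 ∨ Fitt.ideal B (B ⊗[R] M₂) (r - 1) = ⊥ := by
    rcases r with _ | r
    · exact Or.inl rfl
    · refine Or.inr ?_
      rw [ideal_baseChange (R' := B) (r + 1 - 1), Ideal.map_eq_bot_iff_le_ker]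
      intro d hd
      obtain ⟨m, hm⟩ := hbot _ (by omega) d hd
      have := congrArg φ hm
      rw [map_mul, map_pow, map_zero] at this
      exact (mem_nonZeroDivisors_iff_left.1 (pow_mem hfnz m)) _ this
  have hproj := projective_quotient r (φ j) hjnz hfit hk
  obtain ⟨g, hg, hfree, hrk⟩ := exists_free_away r (φ j) hjnz hfit hk p
  let qB : B ⊗[R] M₂ →ₗ[B] B ⊗[R] M := q.baseChange B
  have hqB : Function.Surjective qB := LinearMap.lTensor_surjective B hq
  have hK : ∀ v, qB v = 0 → ∃ m : ℕ, φ f ^ m • v = 0 := fun v hv => by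
    obtain ⟨w, rfl⟩ := ((lTensor_exact B (LinearMap.exact_subtype_ker_map q) hq) v).1 hv
    clear hv
    induction w using TensorProduct.induction_on with
    | zero => exact ⟨0, by simp⟩
    | tmul b k =>
      obtain ⟨m, hm⟩ := hker k.1 k.2
      refine ⟨m, ?_⟩
      rw [LinearMap.lTensor_tmul, ← map_pow, algebraMap_smul, ← TensorProduct.tmul_smul, Submodule.subtype_apply,
        hm, TensorProduct.tmul_zero]
    | add w w' hw hw' =>
      obtain ⟨m, hm⟩ := hw
      obtain ⟨m', hm'⟩ := hw'
      refine ⟨m + m', ?_⟩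
      rw [map_add, smul_add]
      nth_rw 1 [add_comm m m']
      rw [pow_add, mul_smul, hm, smul_zero, pow_add, mul_smul, hm', smul_zero, add_zero]
  let P := FlatCA.powTorsion B (algebraMap R B (f * j)) (B ⊗[R] M)
  let Ψ : B ⊗[R] M₂ →ₗ[B] (B ⊗[R] M) ⧸ P := P.mkQ ∘ₗ qB
  have hΨ : LinearMap.ker Ψ = LinearMap.ker (φ j • (LinearMap.id : B ⊗[R] M₂ →ₗ[B] B ⊗[R] M₂)) := by
    ext v
    simp only [LinearMap.mem_ker, Ψ, LinearMap.comp_apply, Submodule.mkQ_apply, Submodule.Quotient.mk_eq_zero,
      P, Strict.mem_powTorsion, LinearMap.smul_apply, LinearMap.id_apply]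
    constructor
    · rintro ⟨n, hn⟩
      rw [← map_smul] at hn
      obtain ⟨m, hm⟩ := hK _ hn
      rw [smul_smul] at hm
      have hz : (φ f ^ m * algebraMap R B (f * j) ^ n) • (Submodule.Quotient.mk v :
          (B ⊗[R] M₂) ⧸ LinearMap.ker (φ j • (LinearMap.id : B ⊗[R] M₂ →ₗ[B] B ⊗[R] M₂))) = 0 := by
        rw [← Submodule.Quotient.mk_smul, hm]; rfl
      haveI := hproj.2
      have hreg : IsSMulRegular ((B ⊗[R] M₂) ⧸ LinearMap.ker (φ j • (LinearMap.id : B ⊗[R] M₂ →ₗ[B] B ⊗[R] M₂)))
          (φ f ^ m * algebraMap R B (f * j) ^ n) :=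
        Module.Flat.isSMulRegular_of_nonZeroDivisors (mul_mem (pow_mem hfnz m) (pow_mem hnzd n))
      have h0 := hreg.right_eq_zero_of_smul hz
      rw [Submodule.Quotient.mk_eq_zero, LinearMap.mem_ker] at h0
      simpa using h0
    · intro h
      refine ⟨1, ?_⟩
      rw [pow_one, map_mul, mul_smul, ← map_smul, ← map_smul, h, smul_zero, map_zero]
  let e : ((B ⊗[R] M₂) ⧸ LinearMap.ker (φ j • (LinearMap.id : B ⊗[R] M₂ →ₗ[B] B ⊗[R] M₂))) ≃ₗ[B]
      (B ⊗[R] M) ⧸ P :=
    (Submodule.quotEquivOfEq _ _ hΨ.symm).trans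
      (LinearMap.quotKerEquivOfSurjective Ψ (P.mkQ_surjective.comp hqB))
  let E := LinearEquiv.ofBijective (IsLocalizedModule.map (Submonoid.powers g)
    (LocalizedModule.mkLinearMap (Submonoid.powers g) _) (LocalizedModule.mkLinearMap (Submonoid.powers g) _)
    e.toLinearMap) ⟨IsLocalizedModule.map_injective _ _ _ _ e.injective,
      IsLocalizedModule.map_surjective _ _ _ _ e.surjective⟩
  let E' := E.extendScalarsOfIsLocalization (Submonoid.powers g) (Localization.Away g)
  exact ⟨g, hg, Module.Free.of_equiv E', E'.finrank_eq.symm.trans hrk⟩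

end Groth.Agent.FittLib.StrictExists
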