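/-
Fitting ideals: independence of the generating tuple and base change.
-/
import Groth.Prelude.Def_Fitting
import Mathlib.LinearAlgebra.Matrix.SchurComplement
import Mathlib.LinearAlgebra.TensorProduct.Pi
import Mathlib.LinearAlgebra.TensorProduct.RightExactness
import Mathlib.RingTheory.Finiteness.Basic

open TensorProduct

universe u v

namespace Groth.Agent.FittLib

variable {R : Type u} [CommRing R] {M : Type v} [AddCommGroup M] [Module R M]

/-- The Fitting ideal computed with one tuple. -/
def G {n : ℕ} (x : Fin n → M) (k : ℕ) : Ideal R :=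
  Ideal.span {d | ∃ a : Matrix (Fin n) (Fin n) R,
    (∀ i : Fin n, (i : ℕ) < n - k → ∑ j, a i j • x j = 0) ∧ d = a.det}

theorem det_mem_G_of_card {n : ℕ} (x : Fin n → M) (k : ℕ) (a : Matrix (Fin n) (Fin n) R)
    (S : Finset (Fin n)) (hS : S.card ≤ k) (ha : ∀ i, i ∉ S → ∑ j, a i j • x j = 0) :
    a.det ∈ G (R := R) x k := by
  classical
  have hcard : Fintype.card {i : Fin n // (i : ℕ) < n - k} ≤ Fintype.card {i : Fin n // i ∉ S} := by
    rw [Fintype.card_subtype_compl, Fintype.card_fin, Fintype.card_coe]
    refine le_trans (Fintype.card_le_of_injective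
      (fun i : {i : Fin n // (i : ℕ) < n - k} => (⟨i.1.1, i.2⟩ : Fin (n - k))) ?_) ?_
    · intro i j h
      have h' : i.1.1 = j.1.1 := by simpa using h
      exact Subtype.ext (Fin.ext h')
    · rw [Fintype.card_fin]
      omega
  obtain ⟨g⟩ := Function.Embedding.nonempty_of_card_le hcard
  obtain ⟨σ, hσ⟩ : ∃ σ : Equiv.Perm (Fin n), ∀ i : {i : Fin n // (i : ℕ) < n - k}, σ i = (g i).1 := by
    obtain ⟨σ, hσ⟩ := Equiv.Perm.exists_extending_pair
      (Subtype.val : {i : Fin n // (i : ℕ) < n - k} → Fin n) (fun i => (g i).1)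
      Subtype.val_injective (Subtype.val_injective.comp g.injective)
    exact ⟨σ, hσ⟩
  have h : (a.submatrix σ id).det ∈ G (R := R) x k := Ideal.subset_span
    ⟨_, fun i hi => ha (σ i) (hσ ⟨i, hi⟩ ▸ (g ⟨i, hi⟩).2), rfl⟩
  rw [Matrix.det_permute] at h
  have h2 := Ideal.mul_mem_left _ ((Equiv.Perm.sign σ : ℤ) : R) h
  rwa [← mul_assoc, ← Int.cast_mul, Int.units_coe_mul_self, Int.cast_one, one_mul] at h2

/-- Determinants of larger matrices whose relation rows are relations on a set of columns. -/
theorem det_mem_G : ∀ (N : ℕ) {n : ℕ} (x : Fin n → M) (k : ℕ) (a : Matrix (Fin N) (Fin N) R)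
    (c : Fin n → Fin N), Function.Injective c → ∀ (S : Finset (Fin N)), S.card ≤ k →
    (∀ i, i ∉ S → ∑ j, a i (c j) • x j = 0) → a.det ∈ G (R := R) x k
  | 0, n, x, k, a, c, hc, S, hS, ha => by
    obtain rfl : n = 0 := by
      rcases n with _ | n
      · rfl
      · exact Fin.elim0 (c 0)
    exact det_mem_G_of_card x k a S hS (fun i => Fin.elim0 i)
  | N + 1, n, x, k, a, c, hc, S, hS, ha => by
    classical
    by_cases hsurj : Function.Surjective c
    · let e := Equiv.ofBijective c ⟨hc, hsurj⟩
      rw [← Matrix.det_submatrix_equiv_self e a]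
      refine det_mem_G_of_card x k _ (S.preimage e e.injective.injOn) ?_ fun i hi => ?_
      · refine le_trans (Finset.card_le_card_of_injOn e (fun i hi => Finset.mem_preimage.1 hi)
          e.injective.injOn) hS
      · exact ha (e i) fun h => hi (Finset.mem_preimage.2 h)
    · simp only [Function.Surjective, not_forall, not_exists] at hsurj
      obtain ⟨l, hl⟩ := hsurj
      rw [Matrix.det_succ_column a l]
      refine Submodule.sum_mem _ fun i _ => Ideal.mul_mem_left _ _ ?_
      choose c' hc' using fun j => Fin.exists_succAbove_eq (hl j)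
      refine det_mem_G N x k _ c' (fun j j' h => hc (by rw [← hc' j, ← hc' j', h]))
        (S.preimage i.succAbove Fin.succAbove_right_injective.injOn) ?_ fun r hr => ?_
      · exact le_trans (Finset.card_le_card_of_injOn i.succAbove (fun r hr => Finset.mem_preimage.1 hr)
          Fin.succAbove_right_injective.injOn) hS
      · simpa [hc'] using ha (i.succAbove r) fun h => hr (Finset.mem_preimage.2 h)

theorem G_le_G {n m : ℕ} (x : Fin n → M) (y : Fin m → M)
    (hx : Submodule.span R (Set.range x) = ⊤) (hy : Submodule.span R (Set.range y) = ⊤) (k : ℕ) :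
    G (R := R) y k ≤ G (R := R) x k := by
  classical
  refine Ideal.span_le.2 ?_
  rintro _ ⟨a, ha, rfl⟩
  choose P hP using fun i => (Submodule.mem_span_range_iff_exists_fun R).1
    (hx ▸ Submodule.mem_top : y i ∈ Submodule.span R (Set.range x))
  choose Q hQ using fun j => (Submodule.mem_span_range_iff_exists_fun R).1
    (hy ▸ Submodule.mem_top : x j ∈ Submodule.span R (Set.range y))
  let Pm : Matrix (Fin m) (Fin n) R := Matrix.of P
  let Qm : Matrix (Fin n) (Fin m) R := Matrix.of Q
  have key : ∀ w : Fin m → R, ∑ j, Matrix.vecMul w Pm j • x j = ∑ i, w i • y i := by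
    intro w
    simp only [Pm, Matrix.vecMul, dotProduct, Matrix.of_apply, Finset.sum_smul, mul_smul]
    rw [Finset.sum_comm]
    simp only [← Finset.smul_sum, hP]
  let big : Matrix (Fin m ⊕ Fin n) (Fin m ⊕ Fin n) R :=
    Matrix.fromBlocks a (a * Pm) (-Qm) (1 - Qm * Pm)
  have hbig : big = Matrix.fromBlocks a 0 (-Qm) 1 * Matrix.fromBlocks 1 Pm 0 1 := by
    rw [Matrix.fromBlocks_multiply]
    simp [big, neg_add_eq_sub]
  have hdet : (Matrix.reindex finSumFinEquiv finSumFinEquiv big).det = a.det := by
    rw [Matrix.det_reindex_self, hbig, Matrix.det_mul, Matrix.det_fromBlocks_zero₁₂,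
      Matrix.det_fromBlocks_zero₂₁, Matrix.det_one, Matrix.det_one, one_mul, mul_one, mul_one]
  rw [← hdet]
  refine det_mem_G (m + n) x k _ (fun j => finSumFinEquiv (.inr j))
    (finSumFinEquiv.injective.comp Sum.inr_injective)
    ((Finset.univ.filter fun i : Fin m => ¬ (i : ℕ) < m - k).image fun i => finSumFinEquiv (.inl i))
    ?_ fun i hi => ?_
  · refine Finset.card_image_le.trans ?_
    rw [← Fintype.card_subtype]
    refine (Fintype.card_le_of_injective (fun i : {i : Fin m // ¬ (i : ℕ) < m - k} =>
      (⟨i.1.1 - (m - k), by omega⟩ : Fin k)) ?_).trans (Fintype.card_fin k).le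
    intro i j h
    have h' : i.1.1 - (m - k) = j.1.1 - (m - k) := congrArg Fin.val h
    refine Subtype.ext (Fin.ext ?_)
    have := i.2; have := j.2
    omega
  · obtain ⟨s, rfl⟩ := finSumFinEquiv.surjective i
    simp only [Matrix.reindex_apply, Matrix.submatrix_apply, Equiv.symm_apply_apply]
    rcases s with r | r
    · have hr : (r : ℕ) < m - k := by
        by_contra h
        exact hi (Finset.mem_image.2 ⟨r, Finset.mem_filter.2 ⟨Finset.mem_univ _, h⟩, rfl⟩)
      exact (key (a r)).trans (ha r hr)
    · simp only [big, Matrix.fromBlocks_apply₂₂, Matrix.sub_apply, sub_smul, Finset.sum_sub_distrib]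
      rw [Finset.sum_eq_single r (fun b _ hb => by simp [Matrix.one_apply, Ne.symm hb])
        (fun h => absurd (Finset.mem_univ r) h), sub_eq_zero, Matrix.one_apply_eq, one_smul]
      exact ((key (Q r)).trans (hQ r)).symm

/-- The Fitting ideal does not depend on the generating tuple. -/
theorem ideal_eq_G {n : ℕ} (x : Fin n → M) (hx : Submodule.span R (Set.range x) = ⊤) (k : ℕ) :
    Fitt.ideal R M k = G (R := R) x k := by
  refine le_antisymm (Ideal.span_le.2 ?_) (Ideal.span_le.2 ?_)
  · rintro _ ⟨m, y, a, hy, ha, rfl⟩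
    exact G_le_G x y hx hy k (Ideal.subset_span ⟨a, ha, rfl⟩)
  · rintro _ ⟨a, ha, rfl⟩
    exact Ideal.subset_span ⟨n, x, a, hx, ha, rfl⟩

theorem ideal_congr {N : Type*} [AddCommGroup N] [Module R N] (e : M ≃ₗ[R] N) (k : ℕ) :
    Fitt.ideal R M k = Fitt.ideal R N k := by
  refine le_antisymm (Ideal.span_le.2 ?_) (Ideal.span_le.2 ?_)
  · rintro _ ⟨m, y, a, hy, ha, rfl⟩
    refine Ideal.subset_span ⟨m, e ∘ y, a, ?_, fun i hi => ?_, rfl⟩
    · rw [Set.range_comp, ← LinearEquiv.coe_coe, ← Submodule.map_span, hy, Submodule.map_top,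
        LinearMap.range_eq_top]
      exact e.surjective
    · simpa using congrArg e (ha i hi)
  · rintro _ ⟨m, y, a, hy, ha, rfl⟩
    refine Ideal.subset_span ⟨m, e.symm ∘ y, a, ?_, fun i hi => ?_, rfl⟩
    · rw [Set.range_comp, ← LinearEquiv.coe_coe, ← Submodule.map_span, hy, Submodule.map_top,
        LinearMap.range_eq_top]
      exact e.symm.surjective
    · simpa using congrArg e.symm (ha i hi)

variable {R' : Type u} [CommRing R'] [Algebra R R']

/-- A determinant whose rows lie in the spans of given sets lies in the ideal of the determinants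
with rows in these sets. -/
theorem det_mem_of_rows {n : ℕ} (J : Ideal R') (V : Fin n → Set (Fin n → R'))
    (h : ∀ a : Matrix (Fin n) (Fin n) R', (∀ i, a i ∈ V i) → a.det ∈ J) :
    ∀ (T : Finset (Fin n)) (a : Matrix (Fin n) (Fin n) R'),
      (∀ i ∈ T, a i ∈ Submodule.span R' (V i)) → (∀ i ∉ T, a i ∈ V i) → a.det ∈ J := by
  classical
  intro T
  induction T using Finset.induction_on with
  | empty => exact fun a _ ha => h a fun i => ha i (Finset.notMem_empty i)
  | @insert i₀ T hi₀ ih =>
    intro a hT hV
    have key : ∀ v ∈ Submodule.span R' (V i₀), (a.updateRow i₀ v).det ∈ J := by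
      intro v hv
      induction hv using Submodule.span_induction with
      | mem v hv =>
        refine ih _ (fun i hi => ?_) fun i hi => ?_
        · rw [Matrix.updateRow_ne (fun e : i = i₀ => hi₀ (by rw [← e]; exact hi))]
          exact hT i (Finset.mem_insert_of_mem hi)
        · rcases eq_or_ne i i₀ with rfl | hne
          · rw [Matrix.updateRow_self]
            exact hv
          · rw [Matrix.updateRow_ne hne]
            exact hV i fun hm => (Finset.mem_insert.1 hm).elim hne hi
      | zero => rw [Matrix.det_eq_zero_of_row_eq_zero i₀ (fun j => by simp)]; exact J.zero_mem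
      | add v w _ _ hv hw => rw [Matrix.det_updateRow_add]; exact J.add_mem hv hw
      | smul c v _ hv => rw [Matrix.det_updateRow_smul]; exact J.mul_mem_left c hv
    simpa using key (a i₀) (hT i₀ (Finset.mem_insert_self _ _))

/-- Relations after base change. -/
theorem rel_baseChange {n : ℕ} (x : Fin n → M) (hx : Submodule.span R (Set.range x) = ⊤)
    (v : Fin n → R') (hv : ∑ j, v j • ((1 : R') ⊗ₜ[R] x j) = 0) :
    v ∈ Submodule.span R' ((fun z : Fin n → R => algebraMap R R' ∘ z) ''
      {z | ∑ j, z j • x j = 0}) := by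
  classical
  let f : (Fin n → R) →ₗ[R] M := Fintype.linearCombination R x
  have hf : Function.Surjective f := by
    rw [← LinearMap.range_eq_top, Fintype.range_linearCombination, hx]
  have hex := lTensor_exact R' (LinearMap.exact_subtype_ker_map f) hf
  let P := TensorProduct.piScalarRight R R' R' (Fin n)
  have e : f.lTensor R' (P.symm v) = 0 := by
    rw [← hv, ← LinearEquiv.coe_coe, LinearMap.pi_apply_eq_sum_univ P.symm.toLinearMap v, map_sum]
    refine Finset.sum_congr rfl fun j _ => ?_
    have hpj : P.symm (fun l => if j = l then (1 : R') else 0) = (1 : R') ⊗ₜ[R] Pi.single j 1 := by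
      rw [LinearEquiv.symm_apply_eq]
      funext l
      rw [piScalarRight_apply, piScalarRightHom_tmul]
      by_cases h : j = l
      · subst h
        simp
      · simp [h, Pi.single_eq_of_ne (Ne.symm h)]
    rw [LinearEquiv.coe_coe, hpj, TensorProduct.smul_tmul', LinearMap.lTensor_tmul,
      TensorProduct.smul_tmul']
    simp [f, Fintype.linearCombination_apply_single]
  obtain ⟨w, hw⟩ := (hex _).1 e
  rw [← P.apply_symm_apply v, ← hw]
  clear hw e
  induction w using TensorProduct.induction_on with
  | zero => simp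
  | tmul c z =>
    rw [LinearMap.lTensor_tmul]
    have : P (c ⊗ₜ[R] (z : Fin n → R)) = c • (algebraMap R R' ∘ (z : Fin n → R)) := by
      funext l
      rw [piScalarRight_apply, piScalarRightHom_tmul]
      simp [Algebra.smul_def, mul_comm]
    rw [show (LinearMap.ker f).subtype z = (z : Fin n → R) from rfl, this]
    exact Submodule.smul_mem _ _ (Submodule.subset_span ⟨_, z.2, rfl⟩)
  | add a b ha hb => rw [map_add, map_add]; exact Submodule.add_mem _ ha hb

/-- Base change of Fitting ideals. -/
theorem ideal_baseChange [Module.Finite R M] (k : ℕ) :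
    Fitt.ideal R' (R' ⊗[R] M) k = (Fitt.ideal R M k).map (algebraMap R R') := by
  classical
  obtain ⟨n, x, hx⟩ := Module.Finite.exists_fin (R := R) (M := M)
  let x' : Fin n → R' ⊗[R] M := fun j => (1 : R') ⊗ₜ x j
  have hx' : Submodule.span R' (Set.range x') = ⊤ := by
    rw [← Submodule.baseChange_top (R := R) (M := M) (A := R'), ← hx, Submodule.baseChange_span,
      ← Set.range_comp]
    rfl
  rw [ideal_eq_G x' hx', ideal_eq_G x hx]
  refine le_antisymm (Ideal.span_le.2 ?_) (Ideal.map_le_iff_le_comap.2 (Ideal.span_le.2 ?_))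
  · rintro _ ⟨a, ha, rfl⟩
    let V : Fin n → Set (Fin n → R') := fun i => (fun z : Fin n → R => algebraMap R R' ∘ z) ''
      {z | (i : ℕ) < n - k → ∑ j, z j • x j = 0}
    refine det_mem_of_rows _ V (fun b hb => ?_) Finset.univ a (fun i _ => ?_)
      fun i hi => absurd (Finset.mem_univ i) hi
    · choose z hz hbz using hb
      rw [show b = (algebraMap R R').mapMatrix (Matrix.of z) from
        Matrix.ext fun i j => (congrFun (hbz i) j).symm, ← RingHom.map_det]
      exact Ideal.mem_map_of_mem _ (Ideal.subset_span ⟨_, fun i hi => hz i hi, rfl⟩)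
    · by_cases hi : (i : ℕ) < n - k
      · refine Submodule.span_mono ?_ (rel_baseChange x hx (a i) (ha i hi))
        exact Set.image_mono fun z hz _ => hz
      · rw [pi_eq_sum_univ (a i)]
        refine Submodule.sum_mem _ fun j _ => Submodule.smul_mem _ _ (Submodule.subset_span
          ⟨fun l => if j = l then 1 else 0, fun h => absurd h hi, ?_⟩)
        funext l
        simp only [Function.comp_apply, apply_ite (algebraMap R R'), map_one, map_zero]
  · rintro _ ⟨a, ha, rfl⟩
    refine Ideal.subset_span ⟨(algebraMap R R').mapMatrix a, fun i hi => ?_, RingHom.map_det _ a⟩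
    have := congrArg (fun m : M => (1 : R') ⊗ₜ[R] m) (ha i hi)
    simp only [TensorProduct.tmul_sum, TensorProduct.tmul_zero, TensorProduct.tmul_smul] at this
    rw [← this]
    exact Finset.sum_congr rfl fun j _ => IsScalarTower.algebraMap_smul R' (a i j) _

end Groth.Agent.FittLib
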