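import Groth.Agent.FittLib.Rank
import Mathlib.RingTheory.Spectrum.Prime.FreeLocus
import Mathlib.RingTheory.LocalProperties.FinitePresentation
import Mathlib.LinearAlgebra.Matrix.Adjugate
import Mathlib.RingTheory.Flat.TorsionFree
import Mathlib.Algebra.Category.ModuleCat.ProjectiveDimension

/-!
# Modules with a principal Fitting ideal
-/

set_option linter.style.haveILetI false

universe u

open CategoryTheory Limits

namespace Groth.Agent.FittLib

variable {R : Type u} [CommRing R] {M : Type u} [AddCommGroup M] [Module R M]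

theorem eq_zero_mul {f r : R} (hf0 : f ∈ nonZeroDivisors R) (h : r * f = 0) : r = 0 :=
  (mul_right_mem_nonZeroDivisors_eq_zero_iff hf0).1 h

/-- A tuple which is a basis up to `e`-torsion becomes a basis after inverting `e`. -/
theorem exists_basis_away {P : Type u} [AddCommGroup P] [Module R P] (e : R) {m : ℕ} (y : Fin m → P)
    (hspan : ∀ v : P, e • v ∈ Submodule.span R (Set.range y))
    (hrel : ∀ z : Fin m → R, ∑ i, z i • y i = 0 → ∀ i, e * z i = 0) :
    Nonempty (Module.Basis (Fin m) (Localization.Away e) (LocalizedModule (Submonoid.powers e) P)) := by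
  let S := Submonoid.powers e
  let ι := LocalizedModule.mkLinearMap S P
  have hu : IsUnit (algebraMap R (Localization.Away e) e) := IsLocalization.Away.algebraMap_isUnit e
  have hli : LinearIndependent (Localization.Away e) fun i => ι (y i) := by
    rw [Fintype.linearIndependent_iff]
    intro z hz j
    obtain ⟨b, hb⟩ := IsLocalization.exist_integer_multiples_of_finite S z
    choose w hw using hb
    have h0 : ι (∑ i, w i • y i) = 0 := by
      rw [map_sum]
      calc ∑ i, ι (w i • y i) = ∑ i, (b : R) • (z i • ι (y i)) := Finset.sum_congr rfl fun i _ => by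
            rw [map_smul, ← algebraMap_smul (Localization.Away e) (w i), hw i, smul_assoc]
        _ = 0 := by rw [← Finset.smul_sum, hz, smul_zero]
    obtain ⟨⟨_, k, rfl⟩, hk⟩ := (IsLocalizedModule.eq_zero_iff S ι).1 h0
    have h1 := hrel (fun i => e ^ k * w i) (by
      simp only [mul_smul, ← Finset.smul_sum]; exact hk) j
    have h2 : algebraMap R (Localization.Away e) (w j) = 0 := by
      have := congrArg (algebraMap R (Localization.Away e)) h1
      rw [map_zero, map_mul, map_mul, map_pow] at this
      rwa [hu.mul_right_eq_zero, (hu.pow k).mul_right_eq_zero] at this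
    rw [hw j, Algebra.smul_def] at h2
    exact (IsLocalization.map_units (Localization.Away e) b).mul_right_eq_zero.1 h2
  refine ⟨Module.Basis.mk hli (fun v _ => ?_)⟩
  induction v using LocalizedModule.induction_on with
  | _ q s =>
    have hq : LocalizedModule.mk q s = (Localization.mk 1 s * ↑hu.unit⁻¹) • ι (e • q) := by
      rw [map_smul, ← algebraMap_smul (Localization.Away e) e, smul_smul, mul_assoc, IsUnit.val_inv_mul, mul_one,
        LocalizedModule.mkLinearMap_apply, LocalizedModule.mk_smul_mk, one_smul, mul_one]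
    rw [hq]
    refine Submodule.smul_mem _ _ ?_
    obtain ⟨c, hc⟩ := (Submodule.mem_span_range_iff_exists_fun R).1 (hspan q)
    rw [← hc, map_sum]
    exact Submodule.sum_mem _ fun i _ => by
      rw [map_smul, ← algebraMap_smul (Localization.Away e) (c i)]
      exact Submodule.smul_mem _ _ (Submodule.subset_span ⟨i, rfl⟩)

/-- `P` is locally a basis, away from torsion. -/
theorem projective_of_local {P : Type u} [AddCommGroup P] [Module R P]
    (h : ∀ p : PrimeSpectrum R, ∃ e : R, e ∉ p.asIdeal ∧ ∃ (m : ℕ) (y : Fin m → P),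
      (∀ v : P, e • v ∈ Submodule.span R (Set.range y)) ∧
        ∀ z : Fin m → R, ∑ i, z i • y i = 0 → ∀ i, e * z i = 0) :
    Module.FinitePresentation R P ∧ Module.Projective R P := by
  choose e he m y hspan hrel using h
  have hb := fun p => exists_basis_away (e p) (y p) (hspan p) (hrel p)
  have hs : Ideal.span (Set.range e) = ⊤ := by
    by_contra hne
    obtain ⟨I, hI, hle⟩ := Ideal.exists_le_maximal _ hne
    exact he ⟨I, hI.isPrime⟩ (hle (Ideal.subset_span ⟨_, rfl⟩))
  haveI hfp : Module.FinitePresentation R P := by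
    refine Module.FinitePresentation.of_localizationSpan' (Set.range e) hs
      (Rₚ := fun g => Localization.Away g.1) (Mₚ := fun g => LocalizedModule (Submonoid.powers g.1) P)
      (fun g => LocalizedModule.mkLinearMap (Submonoid.powers g.1) P) ?_
    rintro ⟨_, p, rfl⟩
    obtain ⟨b⟩ := hb p
    exact Module.FinitePresentation.of_equiv b.repr.symm
  refine ⟨hfp, Module.freeLocus_eq_univ_iff.1 (Set.eq_univ_iff_forall.2 fun p => ?_)⟩
  refine (Module.basicOpen_subset_freeLocus_iff (f := e p)).2 ?_ ((PrimeSpectrum.mem_basicOpen _ _).2 (he p))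
  obtain ⟨b⟩ := hb p
  exact Module.Projective.of_basis b

section

variable {m k : ℕ} (x : Fin (m + k) → M)

/-- The combination of generators given by a row. -/
noncomputable abbrev rowVal : (Fin (m + k) → R) →ₗ[R] M := Fintype.linearCombination R x

theorem det_mem_G_castAdd (a : Matrix (Fin (m + k)) (Fin (m + k)) R)
    (ha : ∀ i : Fin m, rowVal x (a (Fin.castAdd k i)) = 0) : a.det ∈ G (R := R) x k := by
  refine Ideal.subset_span ⟨a, fun i hi => ?_, rfl⟩
  have := ha ⟨i, by omega⟩
  rwa [rowVal, Fintype.linearCombination_apply] at this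

theorem det_mem_G_pred {a : Matrix (Fin (m + k)) (Fin (m + k)) R}
    (ha : ∀ i : Fin m, rowVal x (a (Fin.castAdd k i)) = 0) (t : Fin k)
    (ht : rowVal x (a (Fin.natAdd m t)) = 0) : a.det ∈ G (R := R) x (k - 1) := by
  classical
  refine det_mem_G_of_card x (k - 1) a ((Finset.univ.erase t).image (Fin.natAdd m)) ?_ fun i hi => ?_
  · exact Finset.card_image_le.trans (by simp [Finset.card_erase_of_mem])
  · rw [← Fintype.linearCombination_apply]
    induction i using Fin.addCases with
    | left i => exact ha i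
    | right i =>
      obtain rfl : i = t := by_contra fun hne =>
        hi (Finset.mem_image.2 ⟨i, Finset.mem_erase.2 ⟨hne, Finset.mem_univ _⟩, rfl⟩)
      exact ht

/-- Cramer's rule for rows. -/
theorem det_smul_eq_sum_rows {n : ℕ} (a : Matrix (Fin n) (Fin n) R) (z : Fin n → R) :
    a.det • z = ∑ i, (a.updateRow i z).det • a i := by
  classical
  have h := Matrix.mulVec_cramer a.transpose z
  rw [Matrix.det_transpose] at h
  rw [← h]
  funext j
  simp only [Matrix.mulVec, dotProduct, Matrix.transpose_apply, Matrix.cramer_transpose_apply,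
    Finset.sum_apply, Pi.smul_apply, smul_eq_mul]
  exact Finset.sum_congr rfl fun i _ => mul_comm _ _

variable {f : R} (hf : G (R := R) x k = Ideal.span {f})

include hf in
/-- At every prime some matrix has determinant a unit times `f`, unless `f` is locally zero. -/
theorem exists_det_eq (p : Ideal R) [p.IsPrime] :
    (∃ r : R, r ∉ p ∧ r * f = 0) ∨ ∃ (a : Matrix (Fin (m + k)) (Fin (m + k)) R) (e : R),
      e ∉ p ∧ (∀ i : Fin m, rowVal x (a (Fin.castAdd k i)) = 0) ∧ a.det = e * f := by
  refine or_iff_not_imp_right.2 fun hne => ?_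
  push Not at hne
  have hle : G (R := R) x k ≤ p * Ideal.span {f} := by
    refine Ideal.span_le.2 ?_
    rintro _ ⟨a, ha, rfl⟩
    have hmem : a.det ∈ Ideal.span {f} := hf ▸ Ideal.subset_span ⟨a, ha, rfl⟩
    obtain ⟨e, he⟩ := Ideal.mem_span_singleton'.1 hmem
    have hep : e ∈ p := by_contra fun h => hne a e h (fun i => by
      rw [rowVal, Fintype.linearCombination_apply]
      exact ha _ (by simp only [Fin.val_castAdd]; omega)) he.symm
    rw [← he]
    exact Ideal.mul_mem_mul hep (Ideal.mem_span_singleton_self f)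
  obtain ⟨q, hq, hqf⟩ := Ideal.mem_mul_span_singleton.1 (hle (hf ▸ Ideal.mem_span_singleton_self f))
  refine ⟨1 - q, fun h => ?_, by rw [sub_mul, one_mul, hqf, sub_self]⟩
  exact p.ne_top_iff_one.mp Ideal.IsPrime.ne_top' (by simpa using p.add_mem h hq)

variable {a : Matrix (Fin (m + k)) (Fin (m + k)) R} (ha : ∀ i : Fin m, rowVal x (a (Fin.castAdd k i)) = 0)
  {e : R} (he : a.det = e * f)

include hf ha he in
theorem exists_smul_eq (z : Fin (m + k) → R) :
    ∃ c : Fin k → R, f • (e • rowVal x z) = f • ∑ t, c t • rowVal x (a (Fin.natAdd m t)) := by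
  have hw : ∀ t : Fin k, ∃ c, c * f = (a.updateRow (Fin.natAdd m t) z).det := fun t =>
    Ideal.mem_span_singleton'.1 (hf ▸ det_mem_G_castAdd x _ fun i => by
      rw [Matrix.updateRow_ne (by intro h; have := congrArg Fin.val h; simp at this; omega)]
      exact ha i)
  choose c hc using hw
  refine ⟨c, ?_⟩
  have h := congrArg (rowVal x) (det_smul_eq_sum_rows a z)
  rw [map_smul, map_sum, Fin.sum_univ_add] at h
  simp only [map_smul, ha, smul_zero, Finset.sum_const_zero, zero_add, ← hc, he] at h
  rw [smul_smul, mul_comm f e, h, Finset.smul_sum]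
  exact Finset.sum_congr rfl fun t _ => by rw [smul_smul, mul_comm]

include ha he in
theorem eq_zero_of_relation (hk : k = 0 ∨ G (R := R) x (k - 1) = ⊥) (hf0 : f ∈ nonZeroDivisors R)
    (c : Fin k → R) (hc : f • ∑ t, c t • rowVal x (a (Fin.natAdd m t)) = 0) (t : Fin k) : e * c t = 0 := by
  classical
  let w : Fin (m + k) → R := Fin.append 0 fun t => f * c t
  let r : Fin (m + k) → R := ∑ i, w i • a i
  have hr : rowVal x r = 0 := by
    rw [map_sum, Fin.sum_univ_add]
    simp only [w, Fin.append_left, Fin.append_right, Pi.zero_apply, map_smul, map_zero, zero_smul, Finset.sum_const_zero,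
      zero_add, mul_smul, ← Finset.smul_sum]
    exact hc
  have h := det_mem_G_pred x (a := a.updateRow (Fin.natAdd m t) r) (fun i => by
    rw [Matrix.updateRow_ne (by intro h; have := congrArg Fin.val h; simp at this; omega)]
    exact ha i) t (by rw [Matrix.updateRow_self]; exact hr)
  rw [hk.resolve_left (by have := t.2; omega), Ideal.mem_bot, Matrix.det_updateRow_sum, he] at h
  simp only [w, Fin.append_right, smul_eq_mul] at h
  refine eq_zero_mul hf0 (eq_zero_mul hf0 ?_)
  linear_combination h

include hf ha he in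
theorem exists_relation_eq (hk : k = 0 ∨ G (R := R) x (k - 1) = ⊥) (hf0 : f ∈ nonZeroDivisors R)
    (z : Fin (m + k) → R) (hz : rowVal x z = 0) :
    ∃ c : Fin m → R, e • z = ∑ i, c i • a (Fin.castAdd k i) := by
  have hw : ∀ i : Fin m, ∃ c, c * f = (a.updateRow (Fin.castAdd k i) z).det := fun i =>
    Ideal.mem_span_singleton'.1 (hf ▸ det_mem_G_castAdd x _ fun j => by
      rcases eq_or_ne j i with rfl | hji
      · rw [Matrix.updateRow_self]; exact hz
      · rw [Matrix.updateRow_ne (by simpa using hji)]; exact ha j)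
  choose c hc using hw
  have h0 : ∀ t : Fin k, (a.updateRow (Fin.natAdd m t) z).det = 0 := fun t => by
    have := det_mem_G_pred x (a := a.updateRow (Fin.natAdd m t) z) (fun i => by
      rw [Matrix.updateRow_ne (by intro h; have := congrArg Fin.val h; simp at this; omega)]
      exact ha i) t (by rw [Matrix.updateRow_self]; exact hz)
    rwa [hk.resolve_left (by have := t.2; omega), Ideal.mem_bot] at this
  refine ⟨c, funext fun j => ?_⟩
  have h := congrFun (det_smul_eq_sum_rows a z) j
  rw [Fin.sum_univ_add] at h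
  simp only [h0, zero_smul, Finset.sum_const_zero, add_zero, ← hc, he, Pi.smul_apply, smul_eq_mul,
    Finset.sum_apply] at h
  simp only [Pi.smul_apply, smul_eq_mul, Finset.sum_apply]
  apply (mul_cancel_left_mem_nonZeroDivisors hf0).1
  rw [Finset.mul_sum, ← mul_assoc, mul_comm f e, h]
  exact Finset.sum_congr rfl fun i _ => by ring

omit ha in
include he in
theorem eq_zero_of_rows (hf0 : f ∈ nonZeroDivisors R) (c : Fin m → R)
    (hc : ∑ i, c i • a (Fin.castAdd k i) = 0) (i : Fin m) : e * c i = 0 := by
  classical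
  let w : Fin (m + k) → R := Fin.append c 0
  have h := Matrix.det_updateRow_sum a (Fin.castAdd k i) w
  have hs : ∑ j, w j • a j = 0 := by
    rw [Fin.sum_univ_add]
    simp only [w, Fin.append_left, Fin.append_right, Pi.zero_apply, zero_smul, Finset.sum_const_zero, add_zero]
    exact hc
  rw [hs, Matrix.det_eq_zero_of_row_eq_zero (Fin.castAdd k i) (fun j => by simp), he] at h
  simp only [w, Fin.append_left, smul_eq_mul] at h
  refine eq_zero_mul hf0 ?_
  linear_combination -h

end

/-- Padded generators. -/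
theorem exists_generators [Module.Finite R M] (k : ℕ) :
    ∃ (m : ℕ) (x : Fin (m + k) → M), Submodule.span R (Set.range x) = ⊤ := by
  obtain ⟨m, x, hx⟩ := Module.Finite.exists_fin (R := R) (M := M)
  exact ⟨m, Fin.append x 0, eq_top_iff.2 (hx.ge.trans (Submodule.span_mono fun _ ⟨i, hi⟩ =>
    ⟨Fin.castAdd k i, by rw [Fin.append_left, hi]⟩))⟩

theorem rowVal_surjective {n k : ℕ} (x : Fin (n + k) → M) (hx : Submodule.span R (Set.range x) = ⊤) :
    Function.Surjective (rowVal (R := R) x) := by
  rw [← LinearMap.range_eq_top, Fintype.range_linearCombination, hx]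

/-- Over a local ring, `Fit_k = (f)` makes the quotient by the `f`-torsion `k`-generated. -/
theorem exists_span_quotient [IsLocalRing R] [Module.Finite R M] (k : ℕ) (f : R)
    (hf : Fitt.ideal R M k = Ideal.span {f}) :
    ∃ g : Fin k → M ⧸ LinearMap.ker (f • (LinearMap.id : M →ₗ[R] M)),
      Submodule.span R (Set.range g) = ⊤ := by
  obtain ⟨m, x, hx⟩ := exists_generators (R := R) (M := M) k
  rw [ideal_eq_G x hx] at hf
  rcases exists_det_eq x hf (IsLocalRing.maximalIdeal R) with ⟨r, hr, hrf⟩ | ⟨a, e, he, ha, hd⟩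
  · have hu : IsUnit r := IsLocalRing.notMem_maximalIdeal.1 hr
    have hf0 : f = 0 := hu.mul_right_eq_zero.1 hrf
    refine ⟨fun _ => 0, eq_top_iff.2 fun y _ => ?_⟩
    obtain ⟨y, rfl⟩ := Submodule.Quotient.mk_surjective _ y
    rw [show (Submodule.Quotient.mk y : M ⧸ LinearMap.ker (f • (LinearMap.id : M →ₗ[R] M))) = 0 from
      (Submodule.Quotient.mk_eq_zero _).2 (by simp [hf0])]
    exact zero_mem _
  · have hu : IsUnit e := IsLocalRing.notMem_maximalIdeal.1 he
    refine ⟨fun t => Submodule.Quotient.mk (rowVal x (a (Fin.natAdd m t))), eq_top_iff.2 fun y _ => ?_⟩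
    obtain ⟨y, rfl⟩ := Submodule.Quotient.mk_surjective _ y
    obtain ⟨z, rfl⟩ := rowVal_surjective x hx y
    obtain ⟨c, hc⟩ := exists_smul_eq x hf ha hd z
    refine (Submodule.smul_mem_iff_of_isUnit _ hu).1 ?_
    rw [← Submodule.Quotient.mk_smul, show (Submodule.Quotient.mk (e • rowVal x z) :
      M ⧸ LinearMap.ker (f • (LinearMap.id : M →ₗ[R] M))) =
        Submodule.Quotient.mk (∑ t, c t • rowVal x (a (Fin.natAdd m t))) from
      (Submodule.Quotient.eq _).2 (by simp [LinearMap.mem_ker, smul_sub, hc])]
    rw [← Submodule.mkQ_apply, map_sum]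
    exact Submodule.sum_mem _ fun t _ => by
      rw [map_smul]; exact Submodule.smul_mem _ _ (Submodule.subset_span ⟨t, rfl⟩)

section Main

variable [Module.Finite R M] (k : ℕ) (f : R) (hf0 : f ∈ nonZeroDivisors R)
  (hf : Fitt.ideal R M k = Ideal.span {f}) (hk : k = 0 ∨ Fitt.ideal R M (k - 1) = ⊥)

include hf0 hf hk in
/-- Away from some `e ∉ p`, the quotient by the `f`-torsion is free of rank `k`. -/
theorem exists_basis_quotient (p : PrimeSpectrum R) :
    ∃ e : R, e ∉ p.asIdeal ∧ ∃ y : Fin k → M ⧸ LinearMap.ker (f • (LinearMap.id : M →ₗ[R] M)),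
      (∀ v, e • v ∈ Submodule.span R (Set.range y)) ∧
        ∀ z : Fin k → R, ∑ i, z i • y i = 0 → ∀ i, e * z i = 0 := by
  obtain ⟨m, x, hx⟩ := exists_generators (R := R) (M := M) k
  rw [ideal_eq_G x hx] at hf hk
  rcases exists_det_eq x hf p.asIdeal with ⟨r, hr, hrf⟩ | ⟨a, e, he, ha, hd⟩
  · exact absurd (eq_zero_mul hf0 hrf ▸ zero_mem _) hr
  · refine ⟨e, he, fun t => Submodule.Quotient.mk (rowVal x (a (Fin.natAdd m t))), fun v => ?_, fun z hz => ?_⟩
    · obtain ⟨v, rfl⟩ := Submodule.Quotient.mk_surjective _ v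
      obtain ⟨z, rfl⟩ := rowVal_surjective x hx v
      obtain ⟨c, hc⟩ := exists_smul_eq x hf ha hd z
      rw [← Submodule.Quotient.mk_smul, show (Submodule.Quotient.mk (e • rowVal x z) :
        M ⧸ LinearMap.ker (f • (LinearMap.id : M →ₗ[R] M))) =
          Submodule.Quotient.mk (∑ t, c t • rowVal x (a (Fin.natAdd m t))) from
        (Submodule.Quotient.eq _).2 (by simp [LinearMap.mem_ker, smul_sub, hc])]
      rw [← Submodule.mkQ_apply, map_sum]
      exact Submodule.sum_mem _ fun t _ => by
        rw [map_smul]; exact Submodule.smul_mem _ _ (Submodule.subset_span ⟨t, rfl⟩)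
    · refine eq_zero_of_relation x ha hd hk hf0 z ?_
      have : Submodule.mkQ (LinearMap.ker (f • (LinearMap.id : M →ₗ[R] M)))
          (∑ t, z t • rowVal x (a (Fin.natAdd m t))) = 0 := by
        simp only [map_sum, map_smul, Submodule.mkQ_apply]; exact hz
      rw [Submodule.mkQ_apply, Submodule.Quotient.mk_eq_zero, LinearMap.mem_ker] at this
      simpa only [LinearMap.smul_apply, LinearMap.id_apply] using this

include hf0 hf hk in
theorem projective_quotient :
    Module.FinitePresentation R (M ⧸ LinearMap.ker (f • (LinearMap.id : M →ₗ[R] M))) ∧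
      Module.Projective R (M ⧸ LinearMap.ker (f • (LinearMap.id : M →ₗ[R] M))) :=
  projective_of_local fun p => by
    obtain ⟨e, he, y, h⟩ := exists_basis_quotient k f hf0 hf hk p
    exact ⟨e, he, k, y, h⟩

include hf0 hf hk in
theorem torsion_eq_ker (x : M) : (∃ n : ℕ, f ^ n • x = 0) ↔ f • x = 0 := by
  haveI := (projective_quotient k f hf0 hf hk).2
  have h1 : ∀ y : M, f • f • y = 0 → f • y = 0 := fun y hy => by
    have hq : f • (Submodule.Quotient.mk y : M ⧸ LinearMap.ker (f • (LinearMap.id : M →ₗ[R] M))) = 0 := by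
      rw [← Submodule.Quotient.mk_smul, Submodule.Quotient.mk_eq_zero]
      simpa using hy
    have hreg : IsSMulRegular (M ⧸ LinearMap.ker (f • (LinearMap.id : M →ₗ[R] M))) f :=
      Module.Flat.isSMulRegular_of_nonZeroDivisors hf0
    have h0 := hreg.right_eq_zero_of_smul hq
    rw [Submodule.Quotient.mk_eq_zero] at h0
    simpa using h0
  refine ⟨fun ⟨n, hn⟩ => ?_, fun h => ⟨1, by rwa [pow_one]⟩⟩
  induction n with
  | zero => rw [pow_zero, one_smul] at hn; rw [hn, smul_zero]
  | succ n ih =>
    rcases n with _ | n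
    · rwa [zero_add, pow_one] at hn
    · refine ih ?_
      rw [pow_succ', mul_smul] at hn ⊢
      rw [pow_succ', mul_smul] at hn
      exact h1 _ hn

include hf0 hf hk in
theorem exists_free_away (p : Ideal R) [hp : p.IsPrime] :
    ∃ g : R, g ∉ p ∧
      Module.Free (Localization.Away g)
          (LocalizedModule (Submonoid.powers g) (M ⧸ LinearMap.ker (f • (LinearMap.id : M →ₗ[R] M)))) ∧
        Module.finrank (Localization.Away g)
          (LocalizedModule (Submonoid.powers g) (M ⧸ LinearMap.ker (f • (LinearMap.id : M →ₗ[R] M)))) = k := by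
  obtain ⟨e, he, y, hs, hr⟩ := exists_basis_quotient k f hf0 hf hk ⟨p, hp⟩
  obtain ⟨b⟩ := exists_basis_away e y hs hr
  haveI : Nontrivial (Localization.Away e) := by
    refine nontrivial_of_ne 1 0 fun h => ?_
    rw [← map_one (algebraMap R (Localization.Away e)), IsLocalization.map_eq_zero_iff (Submonoid.powers e)] at h
    obtain ⟨⟨_, n, rfl⟩, hn⟩ := h
    rw [mul_one] at hn
    exact he (hp.mem_of_pow_mem n (by simp only at hn; rw [hn]; exact zero_mem p))
  exact ⟨e, he, Module.Free.of_basis b, by rw [Module.finrank_eq_card_basis b, Fintype.card_fin]⟩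

include hf0 hf hk in
theorem nonempty_equiv_prod :
    Nonempty (M ≃ₗ[R] (M ⧸ LinearMap.ker (f • (LinearMap.id : M →ₗ[R] M))) ×
      ↥(LinearMap.ker (f • (LinearMap.id : M →ₗ[R] M)))) := by
  haveI := (projective_quotient k f hf0 hf hk).2
  obtain ⟨s, hs⟩ := Module.projective_lifting_property
    (LinearMap.ker (f • (LinearMap.id : M →ₗ[R] M))).mkQ LinearMap.id (Submodule.mkQ_surjective _)
  exact ⟨((LinearMap.exact_subtype_mkQ _).splitSurjectiveEquiv (Submodule.injective_subtype _) ⟨s, hs⟩).1
    ≪≫ₗ LinearEquiv.prodComm R _ _⟩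

include hf0 hf hk in
theorem projDim_lt_two : HasProjectiveDimensionLT (ModuleCat.of R M) 2 := by
  obtain ⟨m, x, hx⟩ := exists_generators (R := R) (M := M) k
  rw [ideal_eq_G x hx] at hf hk
  have hK : Module.FinitePresentation R (LinearMap.ker (rowVal (R := R) x)) ∧
      Module.Projective R (LinearMap.ker (rowVal (R := R) x)) := by
    refine projective_of_local fun p => ?_
    rcases exists_det_eq x hf p.asIdeal with ⟨r, hr, hrf⟩ | ⟨a, e, he, ha, hd⟩
    · exact absurd (eq_zero_mul hf0 hrf ▸ zero_mem _) hr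
    · refine ⟨e, he, m, fun i => ⟨a (Fin.castAdd k i), ha i⟩, fun v => ?_, fun z hz => ?_⟩
      · obtain ⟨c, hc⟩ := exists_relation_eq x hf ha hd hk hf0 v.1 v.2
        rw [Submodule.mem_span_range_iff_exists_fun]
        exact ⟨c, Subtype.ext (by simp [hc])⟩
      · exact eq_zero_of_rows hd hf0 z (by simpa using congrArg Subtype.val hz)
  let S : ShortComplex (ModuleCat.{u} R) := ShortComplex.mk
    (ModuleCat.ofHom (LinearMap.ker (rowVal (R := R) x)).subtype) (ModuleCat.ofHom (rowVal x))
    (ModuleCat.hom_ext (LinearMap.ext fun v => v.2))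
  haveI : Mono S.f := (ModuleCat.mono_iff_injective _).2 (Submodule.injective_subtype _)
  haveI : Epi S.g := (ModuleCat.epi_iff_surjective _).2 (rowVal_surjective x hx)
  have hS : S.ShortExact :=
    { exact := (ShortComplex.ShortExact.moduleCat_exact_iff_function_exact S).2 (LinearMap.exact_subtype_ker_map _) }
  haveI := hK.2
  haveI : Projective S.X₁ := ModuleCat.projective_of_categoryTheory_projective _
  haveI : Projective S.X₂ := ModuleCat.projective_of_categoryTheory_projective _
  exact (hS.hasProjectiveDimensionLT_X₃_iff 0 inferInstance).2 inferInstance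

include hf0 hf hk in
theorem projDim_ker_lt_two :
    HasProjectiveDimensionLT (ModuleCat.of R ↥(LinearMap.ker (f • (LinearMap.id : M →ₗ[R] M)))) 2 := by
  obtain ⟨e⟩ := nonempty_equiv_prod k f hf0 hf hk
  haveI := projDim_lt_two k f hf0 hf hk
  exact Retract.hasProjectiveDimensionLT
    { i := ModuleCat.ofHom (e.symm.toLinearMap ∘ₗ LinearMap.inr R _ _)
      r := ModuleCat.ofHom (LinearMap.snd R _ _ ∘ₗ e.toLinearMap)
      retract := ModuleCat.hom_ext (LinearMap.ext fun v => by simp) : Retract _ (ModuleCat.of R M) } 2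

end Main

end Groth.Agent.FittLib
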