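import Groth.Agent.FittLib.Rank

/-!
# Fitting ideals of a product and of a cyclic module
-/

set_option linter.style.haveILetI false

universe u

namespace Groth.Agent.FittLib

variable {R : Type u} [CommRing R]

theorem det_eq_zero_of_block {ι : Type*} [Fintype ι] [DecidableEq ι] (b : Matrix ι ι R) (S T : Finset ι)
    (hST : T.card < S.card) (h : ∀ i ∈ S, ∀ j ∉ T, b i j = 0) : b.det = 0 := by
  rw [Matrix.det_apply]
  refine Finset.sum_eq_zero fun σ _ => ?_
  obtain ⟨i, hi, hj⟩ : ∃ i ∈ S, σ.symm i ∉ T := by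
    by_contra hcon
    push Not at hcon
    exact absurd (Finset.card_le_card_of_injOn σ.symm hcon σ.symm.injective.injOn) (by omega)
  rw [Finset.prod_eq_zero (Finset.mem_univ (σ.symm i)) (by rw [σ.apply_symm_apply]; exact h i hi _ hj),
    smul_zero]

variable {M M' : Type u} [AddCommGroup M] [Module R M] [AddCommGroup M'] [Module R M']

/-- A determinant whose rows are each supported on one of two blocks of columns. -/
theorem det_mem_of_pure {n n' : ℕ} (x : Fin n → M) (y : Fin n' → M') (l : ℕ)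
    (b : Matrix (Fin n ⊕ Fin n') (Fin n ⊕ Fin n') R) (S : Finset (Fin n ⊕ Fin n')) (hS : S.card ≤ l)
    (hb : ∀ i, ((∀ j, b i (.inr j) = 0) ∧ (i ∉ S → ∑ j, b i (.inl j) • x j = 0)) ∨
      ((∀ j, b i (.inl j) = 0) ∧ (i ∉ S → ∑ j, b i (.inr j) • y j = 0))) :
    b.det ∈ ∑ k ∈ Finset.range (l + 1), G (R := R) x k * G (R := R) y (l - k) := by
  classical
  let P : Finset (Fin n ⊕ Fin n') := Finset.univ.filter
    fun i => (∀ j, b i (.inr j) = 0) ∧ (i ∉ S → ∑ j, b i (.inl j) • x j = 0)
  rcases lt_trichotomy P.card n with hP | hP | hP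
  · rw [det_eq_zero_of_block b Pᶜ (Finset.univ.map ⟨Sum.inr, Sum.inr_injective⟩)
      (by rw [Finset.card_map, Finset.card_compl, Finset.card_univ, Fintype.card_fin, Fintype.card_sum,
            Fintype.card_fin, Fintype.card_fin]; omega)
      (fun i hi j hj => by
        rcases j with j | j
        · exact ((hb i).resolve_left fun h => Finset.mem_compl.1 hi (Finset.mem_filter.2 ⟨Finset.mem_univ _, h⟩)).1 j
        · exact absurd (Finset.mem_map_of_mem _ (Finset.mem_univ j)) hj)]
    exact zero_mem _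
  · let eL : Fin n ≃ {i // i ∈ P} :=
      (Fintype.equivFinOfCardEq (by rw [Fintype.card_coe, hP])).symm
    let eR : Fin n' ≃ {i // ¬ i ∈ P} :=
      (Fintype.equivFinOfCardEq (by
        rw [Fintype.card_subtype_compl, Fintype.card_coe, hP, Fintype.card_sum, Fintype.card_fin,
          Fintype.card_fin, Nat.add_sub_cancel_left])).symm
    let e : Fin n ⊕ Fin n' ≃ Fin n ⊕ Fin n' := (Equiv.sumCongr eL eR).trans (Equiv.sumCompl (· ∈ P))
    have hL : ∀ i : Fin n, (∀ j, b (eL i).1 (.inr j) = 0) ∧ ((eL i).1 ∉ S → ∑ j, b (eL i).1 (.inl j) • x j = 0) :=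
      fun i => (Finset.mem_filter.1 (eL i).2).2
    have hR : ∀ i : Fin n', (∀ j, b (eR i).1 (.inl j) = 0) ∧ ((eR i).1 ∉ S → ∑ j, b (eR i).1 (.inr j) • y j = 0) :=
      fun i => (hb _).resolve_left fun h => (eR i).2 (Finset.mem_filter.2 ⟨Finset.mem_univ _, h⟩)
    let A : Matrix (Fin n) (Fin n) R := Matrix.of fun i j => b (eL i).1 (.inl j)
    let B : Matrix (Fin n') (Fin n') R := Matrix.of fun i j => b (eR i).1 (.inr j)
    have hdet : (b.submatrix e id).det = A.det * B.det := by
      rw [← Matrix.det_fromBlocks_zero₁₂ A 0 B]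
      congr 1
      ext (i | i) (j | j)
      · rfl
      · exact (hL i).1 j
      · exact (hR i).1 j
      · rfl
    let SA := Finset.univ.filter fun i : Fin n => (eL i).1 ∈ S
    let SB := Finset.univ.filter fun i : Fin n' => (eR i).1 ∈ S
    have hcard : SA.card + SB.card ≤ l := by
      refine le_trans ?_ hS
      rw [← Finset.card_disjSum]
      refine Finset.card_le_card_of_injOn e (fun s hs => ?_) e.injective.injOn
      rcases Finset.mem_disjSum.1 hs with ⟨i, hi, rfl⟩ | ⟨i, hi, rfl⟩ <;> exact (Finset.mem_filter.1 hi).2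
    have hA := det_mem_G_of_card x SA.card A SA le_rfl fun i hi =>
      (hL i).2 fun h => hi (Finset.mem_filter.2 ⟨Finset.mem_univ _, h⟩)
    have hB := det_mem_G_of_card y (l - SA.card) B SB (by omega) fun i hi =>
      (hR i).2 fun h => hi (Finset.mem_filter.2 ⟨Finset.mem_univ _, h⟩)
    have hmem : (b.submatrix e id).det ∈ ∑ k ∈ Finset.range (l + 1), G (R := R) x k * G (R := R) y (l - k) := by
      rw [hdet]
      exact Finset.single_le_sum (f := fun k => G (R := R) x k * G (R := R) y (l - k)) (fun _ _ => bot_le)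
        (show SA.card ∈ Finset.range (l + 1) from Finset.mem_range.2 (by omega)) (Ideal.mul_mem_mul hA hB)
    rw [Matrix.det_permute] at hmem
    have h2 := Ideal.mul_mem_left _ ((Equiv.Perm.sign e : ℤ) : R) hmem
    rwa [← mul_assoc, ← Int.cast_mul, Int.units_coe_mul_self, Int.cast_one, one_mul] at h2
  · rw [det_eq_zero_of_block b P (Finset.univ.map ⟨Sum.inl, Sum.inl_injective⟩)
      (by rwa [Finset.card_map, Finset.card_univ, Fintype.card_fin])
      (fun i hi j hj => by
        rcases j with j | j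
        · exact absurd (Finset.mem_map_of_mem _ (Finset.mem_univ j)) hj
        · exact (Finset.mem_filter.1 hi).2.1 j)]
    exact zero_mem _

/-- Fitting ideals of a product. -/
theorem ideal_prod [Module.Finite R M] [Module.Finite R M'] (l : ℕ) :
    Fitt.ideal R (M × M') l = ∑ k ∈ Finset.range (l + 1), Fitt.ideal R M k * Fitt.ideal R M' (l - k) := by
  classical
  obtain ⟨n, x, hx⟩ := Module.Finite.exists_fin (R := R) (M := M)
  obtain ⟨n', y, hy⟩ := Module.Finite.exists_fin (R := R) (M := M')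
  let c : Fin n ⊕ Fin n' ≃ Fin (n + n') := finSumFinEquiv
  let z : Fin (n + n') → M × M' := fun i => Sum.elim (fun j => (x j, 0)) (fun j => (0, y j)) (c.symm i)
  have hz : Submodule.span R (Set.range z) = ⊤ := by
    refine eq_top_iff.2 fun m _ => ?_
    obtain ⟨a, ha⟩ := (Submodule.mem_span_range_iff_exists_fun R).1 (hx ▸ Submodule.mem_top : m.1 ∈ _)
    obtain ⟨b, hb⟩ := (Submodule.mem_span_range_iff_exists_fun R).1 (hy ▸ Submodule.mem_top : m.2 ∈ _)
    refine (Submodule.mem_span_range_iff_exists_fun R).2 ⟨fun i => Sum.elim a b (c.symm i), ?_⟩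
    rw [← c.sum_comp, Fintype.sum_sum_type]
    simp [z, ← ha, ← hb, Prod.ext_iff, Prod.fst_sum, Prod.snd_sum]
  have hrow : ∀ v : Fin (n + n') → R, ∑ i, v i • z i =
      (∑ j, v (c (.inl j)) • x j, ∑ j, v (c (.inr j)) • y j) := fun v => by
    rw [← c.sum_comp, Fintype.sum_sum_type]
    simp [z, Prod.ext_iff, Prod.fst_sum, Prod.snd_sum]
  rw [ideal_eq_G z hz]
  simp only [ideal_eq_G x hx, ideal_eq_G y hy]
  refine le_antisymm (Ideal.span_le.2 ?_) ?_
  · rintro _ ⟨a, ha, rfl⟩
    let S : Finset (Fin n ⊕ Fin n') := Finset.univ.filter fun s => ¬ (c s : ℕ) < n + n' - l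
    let V : Fin (n + n') → Set (Fin (n + n') → R) := fun i => {v |
      ((∀ j, v (c (.inr j)) = 0) ∧ ((i : ℕ) < n + n' - l → ∑ j, v (c (.inl j)) • x j = 0)) ∨
      ((∀ j, v (c (.inl j)) = 0) ∧ ((i : ℕ) < n + n' - l → ∑ j, v (c (.inr j)) • y j = 0))}
    refine det_mem_of_rows (R' := R) _ V (fun b hb => ?_) Finset.univ a (fun i _ => ?_)
      fun i hi => absurd (Finset.mem_univ i) hi
    · rw [← Matrix.det_submatrix_equiv_self c b]
      refine det_mem_of_pure x y l _ S ?_ fun s => (hb (c s)).imp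
        (fun h => ⟨h.1, fun hs => h.2 ?_⟩) (fun h => ⟨h.1, fun hs => h.2 ?_⟩)
      · refine (Finset.card_le_card_of_injOn (t := Finset.Ico (n + n' - l) (n + n')) (fun s => (c s : ℕ)) ?_ ?_).trans (by simp; omega)
        · intro s hs
          simp only [S, Finset.coe_filter, Set.mem_setOf_eq, Finset.mem_univ, true_and, not_lt] at hs
          exact Finset.mem_coe.2 (Finset.mem_Ico.2 ⟨hs, (c s).2⟩)
        · exact fun s _ t _ hst => c.injective (Fin.ext hst)
      · by_contra h'; exact hs (Finset.mem_filter.2 ⟨Finset.mem_univ _, h'⟩)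
      · by_contra h'; exact hs (Finset.mem_filter.2 ⟨Finset.mem_univ _, h'⟩)
    · have he : a i = (fun q => Sum.elim (fun j => a i (c (.inl j))) (0 : Fin n' → R) (c.symm q)) +
          (fun q => Sum.elim (0 : Fin n → R) (fun j => a i (c (.inr j))) (c.symm q)) := by
        funext q
        obtain ⟨s, rfl⟩ := c.surjective q
        rcases s with s | s <;> simp
      rw [he]
      refine add_mem (Submodule.subset_span (Or.inl ⟨fun j => by simp, fun hi => ?_⟩))
        (Submodule.subset_span (Or.inr ⟨fun j => by simp, fun hi => ?_⟩))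
      · simpa using congrArg Prod.fst ((hrow (a i)).symm.trans (ha i hi))
      · simpa using congrArg Prod.snd ((hrow (a i)).symm.trans (ha i hi))
  · rw [Ideal.sum_eq_sup]
    refine Finset.sup_le fun k hk => ?_
    rw [Finset.mem_range] at hk
    rw [G, G, Ideal.span_mul_span']
    refine Ideal.span_le.2 ?_
    rintro _ ⟨_, ⟨a, ha, rfl⟩, _, ⟨b, hb, rfl⟩, rfl⟩
    change a.det * b.det ∈ _
    rw [← Matrix.det_fromBlocks_zero₁₂ a 0 b, ← Matrix.det_reindex_self c]
    refine det_mem_G_of_card z l _ ((((Finset.univ.filter fun i : Fin n => ¬ (i : ℕ) < n - k)).disjSum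
      (Finset.univ.filter fun i : Fin n' => ¬ (i : ℕ) < n' - (l - k))).map c.toEmbedding) ?_ fun i hi => ?_
    · rw [Finset.card_map, Finset.card_disjSum]
      have h1 : ∀ m q : ℕ, (Finset.univ.filter fun i : Fin m => ¬ (i : ℕ) < m - q).card ≤ q := fun m q => by
        refine le_trans (Finset.card_le_card_of_injOn (t := Finset.Ico (m - q) m) (fun i => (i : ℕ)) ?_ ?_)
          (by rw [Nat.card_Ico]; omega)
        · intro s hs
          simp only [Finset.coe_filter, Set.mem_setOf_eq, Finset.mem_univ, true_and, not_lt] at hs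
          exact Finset.mem_coe.2 (Finset.mem_Ico.2 ⟨hs, s.2⟩)
        · exact fun s _ t _ hst => Fin.ext hst
      have := h1 n k
      have := h1 n' (l - k)
      omega
    · obtain ⟨s, rfl⟩ := c.surjective i
      rw [hrow]
      rcases s with s | s
      · have := ha s (by by_contra h; exact hi (by simp; omega))
        simp [this]
      · have := hb s (by by_contra h; exact hi (by simp; omega))
        simp [this]

/-- `Fit_0 (R ⧸ I) = I`. -/
theorem ideal_quotient (I : Ideal R) : Fitt.ideal R (R ⧸ I) 0 = I := by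
  rw [ideal_eq_G (fun _ : Fin 1 => (1 : R ⧸ I)) (eq_top_iff.2 fun q _ => by
    obtain ⟨q, rfl⟩ := Ideal.Quotient.mk_surjective q
    refine (Submodule.mem_span_range_iff_exists_fun R).2 ⟨fun _ => q, ?_⟩
    simp [Algebra.smul_def])]
  refine le_antisymm (Ideal.span_le.2 ?_) fun r hr => Ideal.subset_span
    ⟨Matrix.of fun _ _ => r, fun i _ => ?_, by simp⟩
  · rintro _ ⟨a, ha, rfl⟩
    have := ha 0 (by simp)
    rw [Matrix.det_fin_one]
    simpa [Algebra.smul_def, Ideal.Quotient.eq_zero_iff_mem] using this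
  · simp [Algebra.smul_def, Ideal.Quotient.eq_zero_iff_mem, hr]

end Groth.Agent.FittLib
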