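import Groth.Agent.FittLib.Principal
import Groth.Prelude.Def_FlatCA
import Mathlib.RingTheory.Localization.AtPrime.Basic
import Groth.Agent.BlowUp.AffineChart

/-!
# Fitting ideals and strict transforms along affine blow-up algebras
-/

set_option linter.style.haveILetI false

open TensorProduct

universe u

namespace Groth.Agent.FittLib.Strict

variable {R : Type u} [CommRing R] {M : Type u} [AddCommGroup M] [Module R M]

theorem mem_powTorsion (x : R) (m : M) : m ∈ FlatCA.powTorsion R x M ↔ ∃ n : ℕ, x ^ n • m = 0 := by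
  have hmono : Monotone fun n : ℕ => Submodule.torsionBy R M (x ^ n) := by
    intro a b hab y hy
    obtain ⟨c, rfl⟩ := Nat.exists_eq_add_of_le hab
    simp only [Submodule.mem_torsionBy_iff] at hy ⊢
    rw [pow_add, mul_comm, mul_smul, hy, smul_zero]
  rw [FlatCA.powTorsion, Submodule.mem_iSup_of_directed _ hmono.directed_le]
  simp only [Submodule.mem_torsionBy_iff]

theorem ker_le_powTorsion (x : R) :
    LinearMap.ker (x • (LinearMap.id : M →ₗ[R] M)) ≤ FlatCA.powTorsion R x M := fun m hm =>
  (mem_powTorsion x m).2 ⟨1, by simpa using hm⟩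

variable [Module.Finite R M] (k : ℕ)

/-- If `Fit_k(M) = (t)` with `t` regular then `Fit_k (M/t^∞-torsion) = 1`. -/
theorem ideal_quotient_powTorsion_eq_top {t : R} (ht : t ∈ nonZeroDivisors R)
    (hf : Fitt.ideal R M k = Ideal.span {t}) :
    Fitt.ideal R (M ⧸ FlatCA.powTorsion R t M) k = ⊤ := by
  let q : (M ⧸ LinearMap.ker (t • (LinearMap.id : M →ₗ[R] M))) →ₗ[R] M ⧸ FlatCA.powTorsion R t M :=
    Submodule.factor (ker_le_powTorsion t)
  refine top_unique (le_trans ?_ (ideal_le_of_surjective q (Submodule.factor_surjective _) k))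
  by_contra hne
  obtain ⟨p, hp, hle⟩ := Ideal.exists_le_maximal _ fun h => hne h.ge
  haveI := hp.isPrime
  obtain ⟨m, x, hx⟩ := exists_generators (R := R) (M := M) k
  rw [ideal_eq_G x hx] at hf
  rcases exists_det_eq x hf p with ⟨r, hr, hrf⟩ | ⟨a, e, he, ha, hd⟩
  · exact hr (eq_zero_mul ht hrf ▸ zero_mem _)
  · refine (not_le_iff_exists_smul_mem p k).2 ⟨e, he,
      fun i => Submodule.Quotient.mk (rowVal x (a (Fin.natAdd m i))), fun v => ?_⟩ hle
    obtain ⟨v, rfl⟩ := Submodule.Quotient.mk_surjective _ v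
    obtain ⟨z, rfl⟩ := rowVal_surjective x hx v
    obtain ⟨c, hc⟩ := exists_smul_eq x hf ha hd z
    rw [← Submodule.Quotient.mk_smul, show (Submodule.Quotient.mk (e • rowVal x z) :
      M ⧸ LinearMap.ker (t • (LinearMap.id : M →ₗ[R] M))) =
        Submodule.Quotient.mk (∑ i, c i • rowVal x (a (Fin.natAdd m i))) from
      (Submodule.Quotient.eq _).2 (by simp [LinearMap.mem_ker, smul_sub, hc])]
    rw [← Submodule.mkQ_apply, map_sum]
    exact Submodule.sum_mem _ fun i _ => by
      rw [map_smul]; exact Submodule.smul_mem _ _ (Submodule.subset_span ⟨i, rfl⟩)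

/-- Fitting ideals below the local rank are killed by powers of `a`. -/
theorem exists_pow_mul_eq_zero {a : R} {j : ℕ} (hj : j < k)
    (hfree : ∀ (p : Ideal R) [p.IsPrime], a ∉ p →
      Module.Free (Localization.AtPrime p) (LocalizedModule p.primeCompl M) ∧
        Module.finrank (Localization.AtPrime p) (LocalizedModule p.primeCompl M) = k)
    {r : R} (hr : r ∈ Fitt.ideal R M j) : ∃ n : ℕ, a ^ n * r = 0 := by
  have : a ∈ (Ideal.span {r}).annihilator.radical := by
    rw [Ideal.radical_eq_sInf]
    refine Submodule.mem_sInf.2 fun (p : Ideal R) ⟨hle, hp⟩ => ?_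
    by_contra hap
    haveI := hp
    obtain ⟨hF, hrk⟩ := hfree p hap
    haveI := hF
    haveI : Module.Finite (Localization.AtPrime p) (LocalizedModule p.primeCompl M) :=
      Module.Finite.of_isLocalizedModule p.primeCompl (LocalizedModule.mkLinearMap p.primeCompl M)
    have h0 := ideal_eq_bot_of_basis (Module.finBasisOfFinrankEq _ _ hrk) hj
    rw [show Fitt.ideal (Localization.AtPrime p) (LocalizedModule p.primeCompl M) j =
      (Fitt.ideal R M j).map (algebraMap R (Localization.AtPrime p)) from ideal_localizedModule _ _] at h0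
    have := Ideal.mem_map_of_mem (algebraMap R (Localization.AtPrime p)) hr
    rw [h0, Ideal.mem_bot, IsLocalization.map_eq_zero_iff p.primeCompl] at this
    obtain ⟨⟨s, hs⟩, hsr⟩ := this
    exact hs (hle (Submodule.mem_annihilator_span_singleton _ _ |>.2 hsr))
  obtain ⟨n, hn⟩ := this
  exact ⟨n, (Submodule.mem_annihilator_span_singleton _ _).1 hn⟩

theorem ideal_baseChange_eq_bot {a : R} {j : ℕ} (hj : j < k)
    (hfree : ∀ (p : Ideal R) [p.IsPrime], a ∉ p →
      Module.Free (Localization.AtPrime p) (LocalizedModule p.primeCompl M) ∧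
        Module.finrank (Localization.AtPrime p) (LocalizedModule p.primeCompl M) = k)
    (B : Type u) [CommRing B] [Algebra R B] (ha : algebraMap R B a ∈ nonZeroDivisors B) :
    Fitt.ideal B (B ⊗[R] M) j = ⊥ := by
  rw [ideal_baseChange (R' := B) j, Ideal.map_eq_bot_iff_le_ker]
  intro r hr
  obtain ⟨n, hn⟩ := exists_pow_mul_eq_zero k hj hfree hr
  have := congrArg (algebraMap R B) hn
  rw [map_mul, map_pow, map_zero] at this
  exact (mem_nonZeroDivisors_iff_left.1 (pow_mem ha n)) _ this

/-- `M/t^∞-torsion` is locally free of rank `k`. -/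
theorem exists_free_away_powTorsion {t : R} (ht : t ∈ nonZeroDivisors R)
    (hf : Fitt.ideal R M k = Ideal.span {t}) (hk : k = 0 ∨ Fitt.ideal R M (k - 1) = ⊥)
    (p : Ideal R) [p.IsPrime] :
    ∃ g : R, g ∉ p ∧
      Module.Free (Localization.Away g) (LocalizedModule (Submonoid.powers g) (M ⧸ FlatCA.powTorsion R t M)) ∧
      Module.finrank (Localization.Away g)
        (LocalizedModule (Submonoid.powers g) (M ⧸ FlatCA.powTorsion R t M)) = k := by
  have e : FlatCA.powTorsion R t M = LinearMap.ker (t • (LinearMap.id : M →ₗ[R] M)) := by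
    ext m
    rw [mem_powTorsion, torsion_eq_ker k t ht hf hk, LinearMap.mem_ker]
    rfl
  rw [e]
  exact exists_free_away k t ht hf hk p

section Chart

omit [Module.Finite R M]

variable (I : Ideal R) (a : R) (R₁ : Type u) [CommRing R₁] [Algebra R R₁]
  (e : R₁ ≃ₐ[R] ↥(BlowUp.affineAlgebra R I a))

include e in
theorem nzd_of_equiv : algebraMap R R₁ a ∈ nonZeroDivisors R₁ := by
  rw [← e.symm.commutes a]
  rw [mem_nonZeroDivisors_iff_left]
  intro y hy
  refine e.injective ((mem_nonZeroDivisors_iff_left.1 (BlowUp.AffineChart.algebraMap_mem_nonZeroDivisors I a) _ ?_).trans (map_zero e).symm)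
  have h := congrArg e hy
  rwa [map_zero, map_mul, AlgEquiv.apply_symm_apply] at h

include e in
theorem map_eq_span_of_equiv (ha : a ∈ I) :
    I.map (algebraMap R R₁) = Ideal.span {algebraMap R R₁ a} := by
  have h := congrArg (Ideal.map e.symm.toAlgHom.toRingHom) (BlowUp.AffineChart.map_eq_span I a ha)
  rw [Ideal.map_map, Ideal.map_span, Set.image_singleton] at h
  have hc : (e.symm.toAlgHom.toRingHom).comp (algebraMap R (BlowUp.AffineChart.Chart I a)) = algebraMap R R₁ :=
    RingHom.ext fun r => e.symm.commutes r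
  rw [hc] at h
  simpa using h

end Chart

end Groth.Agent.FittLib.Strict
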