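import Groth.Agent.FittLib.StrictSheaf
import Groth.Agent.IdealSh.Comap

/-!
# Strict transforms along blow-ups of Fitting ideals
-/

set_option linter.style.haveILetI false

universe u

open CategoryTheory Limits AlgebraicGeometry TopologicalSpace

noncomputable section

namespace Groth.Agent.FittLib.StrictFitt

open Groth.Agent.QCoh StrictSheaf

variable {S S' : Scheme.{u}} {F : S.Modules} [F.IsQuasicoherent] [F.IsFiniteType] {k : ℕ} {b : S' ⟶ S}
  {G : S'.Modules} {π : (Scheme.Modules.pullback b).obj F ⟶ G}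

theorem kills (hG : BlowUp.IsStrictTransform b (Fitt.sheafIdeal F k) F G π) :
    KillsTorsion π ((Fitt.sheafIdeal F k).comap b) :=
  hG.2

/-- Good charts: the exceptional ideal is `(c)` and `Fit_k` of the pulled back sections is `(c)`. -/
theorem exists_chart [((Scheme.Modules.pullback b).obj F).IsQuasicoherent]
    [((Scheme.Modules.pullback b).obj F).IsFiniteType]
    (hb : BlowUp.IsEffCartierIdeal ((Fitt.sheafIdeal F k).comap b)) (x : S') :
    ∃ (W : S.affineOpens) (V : S'.affineOpens) (_ : x ∈ V.1) (_ : V.1 ≤ b ⁻¹ᵁ W.1) (c : Γ(S', V.1)),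
      c ∈ nonZeroDivisors Γ(S', V.1) ∧ ((Fitt.sheafIdeal F k).comap b).ideal V = Ideal.span {c} ∧
        Fitt.ideal Γ(S', V.1) Γ((Scheme.Modules.pullback b).obj F, V.1) k = Ideal.span {c} := by
  obtain ⟨W, V₀, hx, e⟩ := IdealSh.Comap.exists_affine_pair b x
  obtain ⟨V, hxV, hVV, c, hc, hce⟩ := IdealSh.EffCartier.exists_equation hb x V₀.1 hx
  refine ⟨W, V, hxV, hVV.trans e, c, hc, hce, ?_⟩
  rw [← sheafIdeal_ideal, ← comap_sheafIdeal]
  exact hce

theorem sheafIdeal_eq_top (hb : BlowUp.IsEffCartierIdeal ((Fitt.sheafIdeal F k).comap b))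
    [Epi π] (hk : KillsTorsion π ((Fitt.sheafIdeal F k).comap b))
    [((Scheme.Modules.pullback b).obj F).IsQuasicoherent] [((Scheme.Modules.pullback b).obj F).IsFiniteType]
    [G.IsQuasicoherent] [G.IsFiniteType] :
    Fitt.sheafIdeal G k = ⊤ := by
  refine IdealSh.Comap.ext_of_forall_exists _ _ fun x => ?_
  obtain ⟨W, V, hxV, e, c, hc, hce, hfit⟩ := exists_chart hb x
  refine ⟨V, hxV, ?_⟩
  haveI : Module.Finite Γ(S', V.1) Γ((Scheme.Modules.pullback b).obj F, V.1) :=
    finite_sections_of_isFiniteType _ V.2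
  obtain ⟨Φ⟩ := nonempty_sections hb hk hce
  rw [sheafIdeal_ideal, ← ideal_congr Φ k, Strict.ideal_quotient_powTorsion_eq_top k hc hfit,
    Scheme.IdealSheafData.ideal_top]
  rfl

/-- Fitting ideals below `k` vanish on the blow-up when they vanish off the centre. -/
theorem sheafIdeal_eq_bot (hb : BlowUp.IsEffCartierIdeal ((Fitt.sheafIdeal F k).comap b))
    [((Scheme.Modules.pullback b).obj F).IsQuasicoherent] [((Scheme.Modules.pullback b).obj F).IsFiniteType]
    {j : ℕ} (U : S.Opens) (hU : ∀ y ∉ (Fitt.sheafIdeal F k).support, y ∈ U)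
    (hvan : ∀ W : S.affineOpens, W.1 ≤ U → (Fitt.sheafIdeal F j).ideal W = ⊥) :
    Fitt.sheafIdeal ((Scheme.Modules.pullback b).obj F) j = ⊥ := by
  refine IdealSh.Comap.ext_of_forall_exists _ _ fun x => ?_
  obtain ⟨W, V, hxV, e, c, hc, hce, -⟩ := exists_chart hb x
  refine ⟨V, hxV, ?_⟩
  rw [← comap_sheafIdeal, IdealSh.Comap.ideal_comap _ b W V e, Scheme.IdealSheafData.ideal_bot, Pi.bot_apply, eq_bot_iff]
  refine Ideal.map_le_iff_le_comap.2 fun d hd => ?_
  simp only [Ideal.mem_comap, Ideal.mem_bot]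
  have hd0 : S.presheaf.map (homOfLE (inf_le_left : W.1 ⊓ U ≤ W.1)).op d = 0 := by
    let ι := { W' : S.Opens // IsAffineOpen W' ∧ W' ≤ W.1 ⊓ U }
    refine TopCat.Sheaf.eq_of_locally_eq' S.sheaf (fun W' : ι => W'.1) (W.1 ⊓ U)
      (fun W' => homOfLE W'.2.2) (fun y hy => ?_) _ _ fun W' => ?_
    · obtain ⟨W', hW', hyW, hWU⟩ := exists_isAffineOpen_mem_and_subset hy
      exact Opens.mem_iSup.2 ⟨⟨W', hW', hWU⟩, hyW⟩
    · change S.presheaf.map _ (S.presheaf.map _ d) = S.presheaf.map _ 0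
      rw [map_zero, ← CommRingCat.comp_apply, ← Functor.map_comp, ← op_comp, ← Ideal.mem_bot,
        ← hvan ⟨W'.1, W'.2.1⟩ (W'.2.2.trans inf_le_right),
        ← Scheme.IdealSheafData.map_ideal _ (U := ⟨W'.1, W'.2.1⟩) (V := W) (W'.2.2.trans inf_le_left)]
      exact Ideal.mem_map_of_mem _ hd
  have hle : S'.basicOpen c ≤ b ⁻¹ᵁ (W.1 ⊓ U) := fun y hy => by
    refine ⟨e (S'.basicOpen_le c hy), hU _ fun hmem => ?_⟩
    have h1 : y ∈ ((Fitt.sheafIdeal F k).comap b).support := by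
      rw [← SetLike.mem_coe, Scheme.IdealSheafData.support_comap]; exact hmem
    rw [← SetLike.mem_coe, IdealSh.Regular.basicOpen_eq_compl_support hce] at hy
    exact hy.2 h1
  have h2 : S'.presheaf.map (homOfLE (S'.basicOpen_le c)).op (b.appLE W.1 V.1 e d) = 0 := by
    rw [← CommRingCat.comp_apply, Scheme.Hom.appLE_map,
      show b.appLE W.1 (S'.basicOpen c) ((S'.basicOpen_le c).trans e) =
        S.presheaf.map (homOfLE (inf_le_left : W.1 ⊓ U ≤ W.1)).op ≫ b.appLE (W.1 ⊓ U) (S'.basicOpen c) hle from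
      (Scheme.Hom.map_appLE _ _ _).symm, CommRingCat.comp_apply, hd0, map_zero]
  haveI := V.2.isLocalization_basicOpen c
  letI := (S'.presheaf.map (homOfLE (S'.basicOpen_le c)).op).hom.toAlgebra
  obtain ⟨⟨_, n, rfl⟩, hn⟩ := (IsLocalization.map_eq_zero_iff (Submonoid.powers c) Γ(S', S'.basicOpen c) _).1 h2
  exact (mem_nonZeroDivisors_iff_left.1 (pow_mem hc n)) _ hn

theorem sheafIdeal_strict_eq_bot (hb : BlowUp.IsEffCartierIdeal ((Fitt.sheafIdeal F k).comap b))
    [Epi π] (hk : KillsTorsion π ((Fitt.sheafIdeal F k).comap b))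
    [((Scheme.Modules.pullback b).obj F).IsQuasicoherent] [((Scheme.Modules.pullback b).obj F).IsFiniteType]
    [G.IsQuasicoherent] [G.IsFiniteType]
    (U : S.Opens) (hU : ∀ y ∉ (Fitt.sheafIdeal F k).support, y ∈ U)
    (hvan : ∀ j < k, ∀ W : S.affineOpens, W.1 ≤ U → (Fitt.sheafIdeal F j).ideal W = ⊥) :
    FlatMod.IsFinLocFreeOfRank k G := by
  have hN : ∀ j < k, Fitt.sheafIdeal ((Scheme.Modules.pullback b).obj F) j = ⊥ :=
    fun j hj => sheafIdeal_eq_bot hb U hU (hvan j hj)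
  refine (isFinLocFreeOfRank_iff G k).2 ⟨fun j hj => IdealSh.Comap.ext_of_forall_exists _ _ fun x => ?_,
    fun j hj => IdealSh.Comap.ext_of_forall_exists _ _ fun x => ?_⟩
  · obtain ⟨W, V, hxV, e, c, hc, hce, hfit⟩ := exists_chart hb x
    refine ⟨V, hxV, ?_⟩
    haveI : Module.Finite Γ(S', V.1) Γ((Scheme.Modules.pullback b).obj F, V.1) :=
      finite_sections_of_isFiniteType _ V.2
    obtain ⟨Φ⟩ := nonempty_sections hb hk hce
    rw [sheafIdeal_ideal, ← ideal_congr Φ j, Scheme.IdealSheafData.ideal_bot]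
    have hk' : k = 0 ∨ Fitt.ideal Γ(S', V.1) Γ((Scheme.Modules.pullback b).obj F, V.1) (k - 1) = ⊥ := by
      refine Or.inr ?_
      rw [← sheafIdeal_ideal, hN (k - 1) (by omega), Scheme.IdealSheafData.ideal_bot]
      rfl
    refine eq_bot_iff.2 fun d hd => ?_
    simp only [Ideal.mem_bot]
    refine Module.eq_zero_of_localization_maximal (fun P (_ : P.IsMaximal) => Localization.AtPrime P)
      (fun P (_ : P.IsMaximal) => Algebra.linearMap Γ(S', V.1) (Localization.AtPrime P)) d fun P _ => ?_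
    haveI : P.IsPrime := Ideal.IsMaximal.isPrime inferInstance
    obtain ⟨g, hg, hfree, hrk⟩ := Strict.exists_free_away_powTorsion k hc hfit hk' P
    haveI := hfree
    haveI : Module.Finite (Localization.Away g) (LocalizedModule (Submonoid.powers g) _) :=
      Module.Finite.of_isLocalizedModule (Submonoid.powers g)
        (LocalizedModule.mkLinearMap (Submonoid.powers g)
          (Γ((Scheme.Modules.pullback b).obj F, V.1) ⧸ FlatCA.powTorsion Γ(S', V.1) c Γ((Scheme.Modules.pullback b).obj F, V.1)))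
    haveI : Nontrivial (Localization.Away g) := by
      refine nontrivial_of_ne 1 0 fun h => ?_
      rw [← map_one (algebraMap Γ(S', V.1) (Localization.Away g)),
        IsLocalization.map_eq_zero_iff (Submonoid.powers g)] at h
      obtain ⟨⟨_, n, rfl⟩, hn⟩ := h
      rw [mul_one] at hn
      exact hg (Ideal.IsPrime.mem_of_pow_mem inferInstance n (by simp only at hn; rw [hn]; exact zero_mem P))
    have h0 := ideal_eq_bot_of_basis (Module.finBasisOfFinrankEq _ _ hrk) hj
    rw [show Fitt.ideal (Localization.Away g) (LocalizedModule (Submonoid.powers g) _) j =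
      (Fitt.ideal Γ(S', V.1) _ j).map (algebraMap _ (Localization.Away g)) from ideal_localizedModule _ _] at h0
    have := Ideal.mem_map_of_mem (algebraMap Γ(S', V.1) (Localization.Away g)) hd
    rw [h0, Ideal.mem_bot, IsLocalization.map_eq_zero_iff (Submonoid.powers g)] at this
    obtain ⟨⟨_, n, rfl⟩, hn⟩ := this
    rw [Algebra.linearMap_apply, IsLocalization.map_eq_zero_iff P.primeCompl]
    exact ⟨⟨g ^ n, fun hm => hg (Ideal.IsPrime.mem_of_pow_mem inferInstance n hm)⟩, hn⟩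
  · obtain ⟨W, V, hxV, e, c, hc, hce, hfit⟩ := exists_chart hb x
    refine ⟨V, hxV, ?_⟩
    rw [sheafIdeal_ideal, Scheme.IdealSheafData.ideal_top, Pi.top_apply]
    haveI : Module.Finite Γ(S', V.1) Γ(G, V.1) := finite_sections_of_isFiniteType _ V.2
    refine top_unique (le_trans ?_ (ideal_mono hj))
    rw [← sheafIdeal_ideal, sheafIdeal_eq_top hb hk, Scheme.IdealSheafData.ideal_top]
    rfl

omit [F.IsFiniteType] in
theorem isFinLocFreeOfRank_congr {X : Scheme.{u}} {M N : X.Modules} (e : M ≅ N) {r : ℕ}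
    (h : FlatMod.IsFinLocFreeOfRank r M) : FlatMod.IsFinLocFreeOfRank r N := fun x => by
  obtain ⟨U, hx, ⟨e'⟩⟩ := h x
  exact ⟨U, hx, ⟨((Scheme.Modules.restrictFunctor U.ι).mapIso e).symm ≪≫ e'⟩⟩

theorem ideal_eq_bot_of_restrict (U : S.Opens) (h : FlatMod.IsFinLocFreeOfRank k (F.restrict U.ι))
    {j : ℕ} (hj : j < k) (W : S.affineOpens) (hW : W.1 ≤ U) : (Fitt.sheafIdeal F j).ideal W = ⊥ := by
  haveI := QCoh.isQuasicoherent_pullback U.ι F
  haveI := isFiniteType_pullback F U.ι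
  have h1 : (Fitt.sheafIdeal F j).comap U.ι = ⊥ := by
    rw [comap_sheafIdeal]
    exact ((isFinLocFreeOfRank_iff _ k).1
      (isFinLocFreeOfRank_congr ((Scheme.Modules.restrictFunctorIsoPullback U.ι).app F) h)).1 j hj
  have hW' : IsAffineOpen (U.ι ⁻¹ᵁ W.1) := W.2.preimage_of_isOpenImmersion U.ι (by simpa using hW)
  have h2 := congrArg (fun I => I.ideal ⟨_, hW'⟩) h1
  rw [IdealSh.Comap.ideal_comap _ U.ι W ⟨_, hW'⟩ le_rfl, Scheme.IdealSheafData.ideal_bot] at h2
  haveI : IsIso (U.ι.app W.1) := Scheme.Hom.isIso_app U.ι W.1 (by simpa using hW)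
  refine eq_bot_iff.2 fun d hd => ?_
  have h3 : U.ι.appLE W.1 (U.ι ⁻¹ᵁ W.1) le_rfl d = 0 := by
    have := Ideal.mem_map_of_mem (U.ι.appLE W.1 (U.ι ⁻¹ᵁ W.1) le_rfl).hom hd
    erw [h2] at this
    exact this
  rw [Scheme.Hom.appLE_eq_app] at h3
  exact (ConcreteCategory.bijective_of_isIso (U.ι.app W.1)).1 (h3.trans (map_zero _).symm)

end Groth.Agent.FittLib.StrictFitt
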